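import Cfsg.Agent.Lib.Recog.PartitionType.Basic
import Cfsg.Agent.Lib.CNGroups.Basic
import Cfsg.Prelude.Def_Transfer

/-!
Groups with a nontrivial partition and an abelian normal subgroup lying in no component: the
symmetric group of degree four, or a proper Hughes subgroup.
-/

set_option autoImplicit false
set_option linter.style.haveILetI false
set_option linter.unusedSectionVars false

namespace CfsgLib.Recog.PartitionType

open Finset
open scoped IsMulCommutative

universe u

variable {G : Type u} [Group G] [Finite G]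

theorem comm_of_sq {A : Subgroup G} (h : ∀ a ∈ A, a * a = 1) {a b : G} (ha : a ∈ A) (hb : b ∈ A) :
    Commute a b := by
  have h1 : a⁻¹ = a := inv_eq_of_mul_eq_one_left (h a ha)
  have h2 : b⁻¹ = b := inv_eq_of_mul_eq_one_left (h b hb)
  have h3 : (a * b)⁻¹ = a * b := inv_eq_of_mul_eq_one_left (h _ (mul_mem ha hb))
  rw [mul_inv_rev, h1, h2] at h3
  exact h3.symm

/-- The power of an element of the coset of an abelian normal subgroup is a norm. -/
theorem pow_mul_eq_prod {V : Subgroup G} [V.Normal] [IsMulCommutative V] (a : V) (u : G) (n : ℕ) :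
    ((a : G) * u) ^ n = ((∏ i ∈ range n, MulAut.conjNormal (u ^ i) a : V) : G) * u ^ n := by
  induction n with
  | zero => simp
  | succ n ih =>
    rw [pow_succ, ih, prod_range_succ, Subgroup.coe_mul, MulAut.conjNormal_apply, pow_succ]
    group

namespace Part

variable {K : G → Subgroup G} (hP : Part K) (hN : NoSelfNorm K) {p : ℕ} (hp : p.Prime)
  {V : Subgroup G} [hVn : V.Normal] (hV : Cfsg.IsElementaryAbelian p V)
  (hne : ∀ g : G, g ≠ 1 → ¬ V ≤ K g)

include hP hN hp hV hne

theorem orderOf_mem {v : G} (hv : v ∈ V) (hv1 : v ≠ 1) : orderOf v = p :=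
  haveI := Fact.mk hp
  orderOf_eq_prime (hV.2 v hv) hv1

theorem comm_V {a b : G} (ha : a ∈ V) (hb : b ∈ V) : Commute a b := by
  haveI := hV.1
  exact congrArg Subtype.val (mul_comm' (⟨a, ha⟩ : V) ⟨b, hb⟩)

theorem exists_out {g : G} (hg : g ≠ 1) : ∃ v ∈ V, v ∉ K g := SetLike.not_le_iff_exists.1 (hne g hg)

/-- Centralisers of nontrivial elements of `V` are `p`-groups. -/
theorem prime_commute {v y : G} (hv : v ∈ V) (hv1 : v ≠ 1) (hy : (orderOf y).Prime)
    (hc : Commute y v) : orderOf y = p := by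
  by_contra hq
  have hov := hP.orderOf_mem hN hp hV hne hv hv1
  have hy1 : y ≠ 1 := fun e => by rw [e, orderOf_one] at hy; exact hy.ne_one rfl
  have hyK : y ∈ K v := hP.mem_of_commute hv1 hc.symm (by rw [hov]; exact Ne.symm hq)
  obtain ⟨v', hv', hout⟩ := hP.exists_out hN hp hV hne hv1
  have hN' := hP.mem_normalizer_of_commute hv1 hv1 (hP.mem v hv1) (hP.comm_V hN hp hV hne hv' hv)
  set w := y⁻¹ * v' * y * v'⁻¹ with hw
  have hwV : w ∈ V := by
    have := hVn.conj_mem v' hv' y⁻¹
    rw [inv_inv] at this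
    exact mul_mem this (inv_mem hv')
  have hwK : w ∈ K v := by
    have := mul_mem (inv_mem hyK) (conj_mem hN' hyK)
    rwa [← mul_assoc, ← mul_assoc] at this
  have hw1 : w = 1 := by
    by_contra hw1
    have hcw : Commute y w := CfsgLib.CNGroups.commute_of_coprime
      (hP.isNilpotent hv1 (hN v hv1)) hyK hwK (by
        rw [hP.orderOf_mem hN hp hV hne hwV hw1]
        exact (Nat.coprime_primes hy hp).2 hq)
    have h1 : y * w = v' * y * v'⁻¹ := by rw [hw]; group
    have h2 := (Nat.coprime_primes hy hp).2 hq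
    have h3 : orderOf (y * w) = orderOf y * p := by
      rw [hcw.orderOf_mul_eq_mul_orderOf_of_coprime (by rw [hP.orderOf_mem hN hp hV hne hwV hw1]; exact h2),
        hP.orderOf_mem hN hp hV hne hwV hw1]
    rw [h1, (show orderOf (v' * y * v'⁻¹) = orderOf y from
      orderOf_injective (MulAut.conj v').toMonoidHom (MulAut.conj v').injective y)] at h3
    have h4 : 2 ≤ p := hp.two_le
    have h5 := hy.pos
    nlinarith
  have hc' : Commute v' y := by
    have : v' * y * v'⁻¹ = y := by
      have h6 : y⁻¹ * (v' * y * v'⁻¹) = 1 := by rw [← hw1, hw]; group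
      exact (inv_mul_eq_one.1 h6).symm
    exact mul_inv_eq_iff_eq_mul.1 this
  have hv'1 : v' ≠ 1 := fun e => hout (e ▸ one_mem _)
  have hv'y : v' ∈ K y := hP.mem_of_commute hy1 hc'.symm
    (by rw [hP.orderOf_mem hN hp hV hne hv' hv'1]; exact hq)
  rw [hP.eq v y hv1 hy1 hyK] at hv'y
  exact hout hv'y

theorem isPGroup_centralizer {v : G} (hv : v ∈ V) (hv1 : v ≠ 1) {y : G} (hc : Commute y v) :
    ∃ j : ℕ, y ^ p ^ j = 1 := by
  have hy0 : orderOf y ≠ 0 := (orderOf_pos y).ne'
  refine ⟨(orderOf y).primeFactorsList.length, ?_⟩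
  have : orderOf y = p ^ (orderOf y).primeFactorsList.length :=
    Nat.eq_prime_pow_of_unique_prime_dvd hy0 fun {d} hd hdy => by
      have ho := orderOf_pow_orderOf_div hy0 hdy
      rw [← ho]
      exact hP.prime_commute hN hp hV hne hv hv1 (by rw [ho]; exact hd) (hc.pow_left _)
  rw [← this, pow_orderOf_eq_one]

theorem eq_one_of_coprime {v y : G} (hv : v ∈ V) (hv1 : v ≠ 1) (hc : Commute y v)
    (hco : (orderOf y).Coprime p) : y = 1 := by
  obtain ⟨j, hj⟩ := hP.isPGroup_centralizer hN hp hV hne hv hv1 hc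
  exact orderOf_eq_one_iff.1 (Nat.eq_one_of_dvd_coprimes (hco.pow_right j) dvd_rfl
    (orderOf_dvd_of_pow_eq_one hj))

/-- An element of order prime to `p` gives an involution moving `V`, which has order four. -/
theorem exists_invol {x : G} (hx : (orderOf x).Prime) (hxp : orderOf x ≠ p) (hV1 : V ≠ ⊥) :
    p = 2 ∧ Nat.card V = 4 ∧ ∃ u : G, u * u = 1 ∧ ∃ v ∈ V, ¬ Commute u v := by
  classical
  haveI := hV.1
  have hx1 : x ≠ 1 := fun e => by rw [e, orderOf_one] at hx; exact hx.ne_one rfl
  have hxco : (orderOf x).Coprime p := (Nat.coprime_primes hx hp).2 hxp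
  have hfpf : ∀ v ∈ V, Commute x v → v = 1 := fun v hv hc => by
    by_contra hv1
    exact hx1 (hP.eq_one_of_coprime hN hp hV hne hv hv1 hc hxco)
  set C := K x with hC
  have hxC : x ∈ C := hP.mem x hx1
  have hnil := hP.isNilpotent hx1 (hN x hx1)
  have hVC : ∀ v ∈ V, v ∈ C → v = 1 := fun v hv hvC => by
    by_contra hv1
    refine hv1 (hfpf v hv (CfsgLib.CNGroups.commute_of_coprime hnil hxC hvC ?_))
    rwa [hP.orderOf_mem hN hp hV hne hv hv1]
  have hfix : ∀ k ∈ C, ∀ v ∈ V, Commute k v → k ≠ 1 → v = 1 := by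
    intro k hk v hv hc hk1
    by_contra hv1
    have hvN := hP.mem_normalizer_of_commute hx1 hk1 hk hc.symm
    refine hv1 (hfpf v hv ?_)
    have h1 : x * v * x⁻¹ * v⁻¹ ∈ C := by
      have := mul_mem hxC (conj_mem hvN (inv_mem hxC))
      rwa [← mul_assoc, ← mul_assoc] at this
    have h2 : x * v * x⁻¹ * v⁻¹ = 1 := hVC _ (mul_mem (hVn.conj_mem v hv x) (inv_mem hv)) h1
    exact mul_inv_eq_iff_eq_mul.1 (mul_inv_eq_one.1 h2)
  obtain ⟨w, hwN, hwC, hwr⟩ := hP.exists_prime_normalizing hx1 (hN x hx1)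
  set r := orderOf w with hr
  have hcoset : ∀ k ∈ C, (k * w) ^ r = 1 := fun k hk =>
    hP.coset_pow hx1 hwN hwC (by rw [hr, pow_orderOf_eq_one]; exact one_mem _) hk
  have hkw : ∀ k ∈ C, k * w ∉ C := fun k hk e => hwC (by simpa using mul_mem (inv_mem hk) e)
  -- some norm is nontrivial
  obtain ⟨k, hk, v, hv, hvu⟩ : ∃ k ∈ C, ∃ v ∈ V, (v * (k * w)) ^ r ≠ 1 := by
    by_contra hall
    push Not at hall
    obtain ⟨a, haV, ha1⟩ := (Subgroup.bot_or_exists_ne_one V).resolve_left hV1
    refine ha1 ?_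
    haveI : Fintype C := Fintype.ofFinite _
    have hnorm : ∀ k : C, (∏ i ∈ range r, MulAut.conjNormal (((k : G) * w) ^ i) (⟨a, haV⟩ : V)) = 1 := by
      intro k
      have := pow_mul_eq_prod (⟨a, haV⟩ : V) ((k : G) * w) r
      rw [hall k k.2 a haV, hcoset k k.2, mul_one] at this
      exact Subtype.ext this.symm
    have hsum : ∏ i ∈ range r, ∏ k : C, MulAut.conjNormal (((k : G) * w) ^ i) (⟨a, haV⟩ : V) = 1 := by
      rw [prod_comm]; exact prod_eq_one fun k _ => hnorm k
    have hinner : ∀ i ∈ range r, i ≠ 0 →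
        ∏ k : C, MulAut.conjNormal (((k : G) * w) ^ i) (⟨a, haV⟩ : V) = 1 := by
      intro i hi hi0
      have hir : i < r := mem_range.1 hi
      have hmem : ∀ (m : ℕ) (k : C), ((k : G) * w) ^ m * (w ^ m)⁻¹ ∈ C := by
        intro m k
        induction m with
        | zero => simp
        | succ m ih =>
          rw [pow_succ' ((k : G) * w) m, pow_succ' w m, mul_inv_rev,
            show (k : G) * w * ((k : G) * w) ^ m * ((w ^ m)⁻¹ * w⁻¹)
              = (k : G) * (w * (((k : G) * w) ^ m * (w ^ m)⁻¹) * w⁻¹) by group]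
          exact mul_mem k.2 (conj_mem hwN ih)
      let φ : C → C := fun k => ⟨((k : G) * w) ^ i * (w ^ i)⁻¹, hmem i k⟩
      have hinj : Function.Injective φ := by
        intro k k' e
        have e1 : ((k : G) * w) ^ i = ((k' : G) * w) ^ i := mul_right_cancel (congrArg Subtype.val e)
        have hco : Nat.Coprime i r := (hwr.coprime_iff_not_dvd.2
          (Nat.not_dvd_of_pos_of_lt (Nat.pos_of_ne_zero hi0) hir)).symm
        obtain ⟨j, -, hj⟩ := Nat.exists_mul_mod_eq_one_of_coprime hco hwr.one_lt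
        have key : ∀ t : G, t ^ r = 1 → (t ^ i) ^ j = t := fun t ht => by
          rw [← pow_mul, pow_eq_pow_mod (i * j) ht, hj, pow_one]
        have e2 := key _ (hcoset k k.2)
        rw [e1, key _ (hcoset k' k'.2)] at e2
        exact Subtype.ext (mul_right_cancel e2.symm)
      have hbij : Function.Bijective φ := hinj.bijective_of_finite
      set b : V := MulAut.conjNormal (w ^ i) (⟨a, haV⟩ : V) with hb
      have h1 : ∏ k : C, MulAut.conjNormal (((k : G) * w) ^ i) (⟨a, haV⟩ : V)
          = ∏ h : C, MulAut.conjNormal (h : G) b := by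
        refine Fintype.prod_bijective φ hbij _ _ fun k => ?_
        rw [hb, ← MulAut.mul_apply, ← map_mul]
        simp [φ]
      rw [h1]
      apply Subtype.ext
      refine hfix x hxC _ (SetLike.coe_mem _) ?_ hx1
      refine mul_inv_eq_iff_eq_mul.1 ?_
      show x * _ * x⁻¹ = _
      rw [← MulAut.conjNormal_apply, map_prod]
      refine congrArg Subtype.val (Fintype.prod_bijective (fun h : C => ⟨x * h, mul_mem hxC h.2⟩)
        ((Group.mulLeft_bijective (⟨x, hxC⟩ : C))) _ _ fun h => ?_)
      rw [← MulAut.mul_apply, ← map_mul]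
    rw [prod_eq_single 0 hinner (fun h => absurd (mem_range.2 hwr.pos) h)] at hsum
    simp only [pow_zero, map_one, MulAut.one_apply, prod_const, card_univ] at hsum
    have h2 : a ^ Fintype.card C = 1 := by simpa using congrArg Subtype.val hsum
    rw [← Nat.card_eq_fintype_card] at h2
    have hco : (Nat.card C).Coprime p := (hp.coprime_iff_not_dvd.2 fun hd => by
      haveI := Fact.mk hp
      obtain ⟨z, hz⟩ := exists_prime_orderOf_dvd_card' p hd
      have hz1 : z ≠ 1 := fun e => by rw [e, orderOf_one] at hz; exact hp.ne_one hz.symm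
      -- a `p`-element fixes a nontrivial element of `V`
      have hzV : IsPGroup p (Subgroup.zpowers (z : G)) := IsPGroup.of_card (n := 1) (by
        rw [Nat.card_zpowers, Subgroup.orderOf_coe, hz, pow_one])
      letI : MulAction (Subgroup.zpowers (z : G)) V := MulAction.compHom _
        ((MulAut.conjNormal (H := V)).comp (Subgroup.zpowers (z : G)).subtype)
      have hVp : p ∣ Nat.card V := by
        rw [← hP.orderOf_mem hN hp hV hne haV ha1]
        exact Subgroup.orderOf_dvd_natCard V haV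
      have h1fix : (1 : V) ∈ MulAction.fixedPoints (Subgroup.zpowers (z : G)) V := fun g => by
        show MulAut.conjNormal (g : G) (1 : V) = 1
        simp
      obtain ⟨b, hb, hb1⟩ := hzV.exists_fixed_point_of_prime_dvd_card_of_fixed_point V hVp h1fix
      refine hb1 (Subtype.ext (hfix z z.2 b b.2 ?_ (fun e => hz1 (Subtype.ext e)))).symm
      have := congrArg Subtype.val (hb ⟨z, Subgroup.mem_zpowers _⟩)
      exact mul_inv_eq_iff_eq_mul.1 this).symm
    exact orderOf_eq_one_iff.1 (Nat.eq_one_of_dvd_coprimes hco (orderOf_dvd_of_pow_eq_one h2)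
      (orderOf_dvd_of_pow_eq_one (hV.2 a haV)))
  set u := k * w with hu
  have hur : u ^ r = 1 := hcoset k hk
  set c := (v * u) ^ r with hc
  have hcV : c ∈ V := by
    rw [hc, pow_mul_eq_prod (⟨v, hv⟩ : V) u r, hur, mul_one]; exact SetLike.coe_mem _
  have huc : Commute u c := by
    have h1 : Commute (v * u) c := (Commute.refl (v * u)).pow_right r
    have h2 : Commute v⁻¹ c := hP.comm_V hN hp hV hne (inv_mem hv) hcV
    simpa using h2.mul_left h1
  have hu1 : u ≠ 1 := fun e => hkw k hk (by rw [← hu, e]; exact one_mem _)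
  have hou : orderOf u = r := haveI := Fact.mk hwr; orderOf_eq_prime hur hu1
  have hrp : r = p := by
    rw [← hou]
    exact hP.prime_commute hN hp hV hne hcV hvu (by rw [hou]; exact hwr) huc
  have hvu1 : v * u ≠ 1 := fun e => hvu (by rw [hc, e, one_pow])
  have hKc : K c = K (v * u) := hP.eq _ _ hvu1 hvu (pow_mem (hP.mem _ hvu1) r)
  set N : G → G := fun a => (a * u) ^ r with hN'
  have hNhom : ∀ a ∈ V, ∀ b ∈ V, N (a * b) = N a * N b := by
    intro a ha b hb
    have e1 := pow_mul_eq_prod (⟨a, ha⟩ : V) u r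
    have e2 := pow_mul_eq_prod (⟨b, hb⟩ : V) u r
    have e3 := pow_mul_eq_prod ((⟨a, ha⟩ : V) * ⟨b, hb⟩) u r
    rw [hur, mul_one] at e1 e2 e3
    simp only [map_mul, prod_mul_distrib, Subgroup.coe_mul] at e3
    show (a * b * u) ^ r = (a * u) ^ r * (b * u) ^ r
    rw [e1, e2]
    exact e3
  have hNout : ∀ a ∈ V, a ∉ K c → N (u * a * u⁻¹) = c⁻¹ := by
    intro a ha haH
    have haN := hP.mem_normalizer_of_commute hvu hvu (hP.mem c hvu) (hP.comm_V hN hp hV hne ha hcV)
    have h1 := hP.coset_pow (n := p) hvu haN haH (by rw [hV.2 a ha]; exact one_mem _)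
      (show v * u ∈ K c from hKc ▸ hP.mem _ hvu1)
    rw [← hrp] at h1
    have h2 : v * u * a = v * (u * a * u⁻¹) * u := by group
    rw [h2] at h1
    exact eq_inv_of_mul_eq_one_right ((hNhom v hv _ (hVn.conj_mem a ha u)).symm.trans h1)
  have hNout' : ∀ a ∈ V, a ∉ K c → N a = c⁻¹ := by
    intro a ha haH
    rw [← hNout a ha haH]
    show (a * u) ^ r = (u * a * u⁻¹ * u) ^ r
    rw [show u * a * u⁻¹ * u = u * (a * u) * u⁻¹ by group, conj_pow]
    have h1 : Commute (a * u) ((a * u) ^ r) := Commute.pow_right (Commute.refl _) r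
    have h2 : Commute a⁻¹ ((a * u) ^ r) := hP.comm_V hN hp hV hne (inv_mem ha) (by
      rw [← Subgroup.coe_mk V a ha, pow_mul_eq_prod, hur, mul_one]; exact SetLike.coe_mem _)
    have h3 : Commute u ((a * u) ^ r) := by simpa using h2.mul_left h1
    rw [h3.eq, mul_inv_cancel_right]
  obtain ⟨b, hbV, hbH⟩ := hP.exists_out hN hp hV hne hvu
  have hb1 : b ≠ 1 := fun e => hbH (e ▸ one_mem _)
  have hp2 : p = 2 := by
    by_contra hp2
    have h2H : b * b ∉ K c := fun e => by
      have h1 := hP.pow_eq_one hvu hbH (j := 2) (by rwa [pow_two])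
      have h2 := orderOf_dvd_of_pow_eq_one h1
      rw [hP.orderOf_mem hN hp hV hne hbV hb1] at h2
      exact hp2 ((Nat.prime_dvd_prime_iff_eq hp Nat.prime_two).1 h2)
    have := hNhom b hbV b hbV
    rw [hNout' _ (mul_mem hbV hbV) h2H, hNout' b hbV hbH] at this
    exact hvu (inv_eq_one.1 (mul_eq_left.1 this.symm))
  subst hp2
  have hsq : ∀ a ∈ V, a * a = 1 := fun a ha => by rw [← pow_two]; exact hV.2 a ha
  have hcinv : c⁻¹ = c := inv_eq_of_mul_eq_one_left (hsq c hcV)
  rw [hrp] at hur
  have huu : u * u = 1 := by rw [← pow_two]; exact hur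
  have huN : u ∈ Subgroup.normalizer (C : Set G) := mul_mem (Subgroup.le_normalizer hk) hwN
  have hinv : ∀ h ∈ C, u * h * u⁻¹ = h⁻¹ := fun h hh => hP.inverts hx1 huN (hkw k hk) huu hh
  have hval : ∀ a ∈ V, N a = 1 ∨ N a = c := by
    intro a ha
    by_cases haH : a ∈ K c
    · left
      have h1 := hNhom a ha b hbV
      have h2 : a * b ∉ K c := fun e => hbH (by simpa using mul_mem (inv_mem haH) e)
      rw [hNout' _ (mul_mem ha hbV) h2, hNout' b hbV hbH] at h1
      exact mul_eq_right.1 h1.symm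
    · exact Or.inr ((hNout' a ha haH).trans hcinv)
  have hNker : ∀ a ∈ V, N a = 1 → Commute u a := fun a ha h => by
    have h1 : (a * u) * (a * u) = 1 := by rw [← pow_two, ← hrp]; exact h
    have h2 := eq_inv_of_mul_eq_one_left h1
    rw [mul_inv_rev, inv_eq_of_mul_eq_one_left (hsq a ha), inv_eq_of_mul_eq_one_left huu] at h2
    exact h2.symm
  refine ⟨rfl, ?_, u, huu, b, hbV, fun hub => hvu ?_⟩
  swap
  · have : N b = 1 := by
      show (b * u) ^ r = 1
      rw [hrp, hub.symm.mul_pow, hur, mul_one, hV.2 b hbV]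
    rw [hNout' b hbV hbH] at this
    exact inv_eq_one.1 this
  -- the order of `V`
  have hinj : Function.Injective (fun a : V =>
      (decide (N a = 1), decide (N (x⁻¹ * a * x) = 1))) := by
    intro a a' e
    simp only [Prod.mk.injEq, decide_eq_decide] at e
    have hsame : ∀ s ∈ V, ∀ t ∈ V, (N s = 1 ↔ N t = 1) → Commute u (s * t) := by
      intro s hs t ht hst
      refine hNker _ (mul_mem hs ht) ?_
      rw [hNhom s hs t ht]
      rcases hval s hs with h | h
      · rw [h, hst.1 h, one_mul]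
      · rcases hval t ht with h' | h'
        · rw [hst.2 h', h', one_mul]
        · rw [h, h', hsq c hcV]
    have h1 := hsame a a.2 a' a'.2 e.1
    have hmem : ∀ s : V, x⁻¹ * (s : G) * x ∈ V := fun s => by
      simpa using hVn.conj_mem s s.2 x⁻¹
    have h2 := hsame _ (hmem a) _ (hmem a') e.2
    rw [show x⁻¹ * (a : G) * x * (x⁻¹ * a' * x) = x⁻¹ * (a * a') * x by group] at h2
    have h3 : Commute (x * u * x⁻¹) ((a : G) * a') := by
      have := h2.map (MulAut.conj x).toMonoidHom
      simpa [mul_assoc] using this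
    have h4 : x * u * x⁻¹ = x * x * u := by
      have h5 := hinv x⁻¹ (inv_mem hxC)
      rw [inv_inv, mul_inv_eq_iff_eq_mul] at h5
      rw [mul_assoc x u, h5, mul_assoc]
    rw [h4] at h3
    have h6 : Commute (x * x) ((a : G) * a') := by
      have := h3.mul_left h1
      rwa [mul_assoc, huu, mul_one] at this
    have hxx : x * x ≠ 1 := fun e2 => by
      have := orderOf_dvd_of_pow_eq_one (show x ^ 2 = 1 by rwa [pow_two])
      exact hxp ((Nat.prime_dvd_prime_iff_eq hx Nat.prime_two).1 this)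
    have h7 : (a : G) * a' = 1 :=
      hfix _ (mul_mem hxC hxC) _ (mul_mem a.2 a'.2) h6 hxx
    exact Subtype.ext ((eq_inv_of_mul_eq_one_left h7).trans (inv_eq_of_mul_eq_one_left (hsq _ a'.2)))
  have hle : Nat.card V ≤ 4 := (Nat.card_le_card_of_injective _ hinj).trans (by simp)
  obtain ⟨a, haV, ha1⟩ := (Subgroup.bot_or_exists_ne_one V).resolve_left hV1
  have hge : 3 ≤ Nat.card V := by
    have h1 : x * a * x⁻¹ ≠ a := fun e => ha1 (hfpf a haV (mul_inv_eq_iff_eq_mul.1 e))
    let f : Fin 3 → V := ![1, ⟨a, haV⟩, ⟨_, hVn.conj_mem a haV x⟩]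
    have : Function.Injective f := by
      intro i j e
      have e' := congrArg Subtype.val e
      fin_cases i <;> fin_cases j <;> simp [f] at e' ⊢ <;>
        first
          | exact ha1 e'
          | exact ha1 e'.symm
          | exact h1 e'
          | exact h1 e'.symm
          | exact ha1 (conj_eq_one_iff.1 e')
          | exact ha1 (conj_eq_one_iff.1 e'.symm)
    simpa using Nat.card_le_card_of_injective f this
  obtain ⟨n, hn⟩ := (IsPGroup.iff_card.1 (show IsPGroup 2 V from fun a => ⟨1, Subtype.ext (by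
    simpa using hV.2 a a.2)⟩))
  rcases n with _ | _ | _ | n
  · simp at hn; subst hn; simp at hge
  · simp at hn; omega
  · simpa using hn
  · have : 8 ≤ 2 ^ (n + 3) := by
      calc 8 = 2 ^ 3 := rfl
        _ ≤ _ := Nat.pow_le_pow_right (by norm_num) (by omega)
    omega

end Part

/-- An abelian normal subgroup in no component. -/
theorem of_abelian_normal {G : Type u} [Group G] [Finite G] {K : G → Subgroup G} (hP : Part K)
    (hN : NoSelfNorm K) {p : ℕ} (hp : p.Prime) (V : Subgroup G) [V.Normal]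
    (hV : Cfsg.IsElementaryAbelian p V) (hV1 : V ≠ ⊥) (hne : ∀ g : G, g ≠ 1 → ¬ V ≤ K g) :
    Nonempty (G ≃* Equiv.Perm (Fin 4)) ∨
      ∃ q : ℕ, q.Prime ∧ Subgroup.closure {g : G | g ^ q ≠ 1} ≠ ⊤ := by
  classical
  haveI := Fact.mk hp
  by_cases hG : IsPGroup p G
  · refine Or.inr ⟨p, hp, ?_⟩
    haveI : Nontrivial G := by
      obtain ⟨a, -, ha⟩ := (Subgroup.bot_or_exists_ne_one V).resolve_left hV1
      exact ⟨⟨a, 1, ha⟩⟩
    haveI := hG.center_nontrivial
    obtain ⟨⟨z, hz⟩, hz1⟩ := exists_ne (1 : Subgroup.center G)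
    have hz1' : z ≠ 1 := fun e => hz1 (Subtype.ext e)
    refine fun htop => hP.ne_top z hz1' (top_le_iff.1 (htop ▸ ?_))
    rw [Subgroup.closure_le]
    intro g hg
    by_contra hgK
    have hc : Commute z g := (Subgroup.mem_center_iff.1 hz g).symm
    have hpr := hP.prime_orderOf hz1' hc hgK
    obtain ⟨n, hn⟩ := IsPGroup.iff_orderOf.1 hG z
    have : orderOf g = p := by
      rw [← hP.orderOf_eq hz1' hc hgK]
      rw [hn] at hpr ⊢
      rw [hpr.eq_one_of_pow, pow_one]
    exact hg (by rw [← this, pow_orderOf_eq_one])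
  obtain ⟨x, hx, hxp⟩ : ∃ x : G, (orderOf x).Prime ∧ orderOf x ≠ p := by
    by_contra h
    push Not at h
    refine hG (IsPGroup.of_card (n := (Nat.card G).primeFactorsList.length) ?_)
    refine Nat.eq_prime_pow_of_unique_prime_dvd Nat.card_pos.ne' fun {d} hd hdG => ?_
    haveI := Fact.mk hd
    obtain ⟨g, hg⟩ := exists_prime_orderOf_dvd_card' d hdG
    rw [← hg]; exact h g (hg.symm ▸ hd)
  left
  obtain ⟨rfl, h4, u, huu, v₀, hv₀, hnc⟩ := hP.exists_invol hN hp hV hne hx hxp hV1
  obtain ⟨a, haV, ha1⟩ := (Subgroup.bot_or_exists_ne_one V).resolve_left hV1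
  set P := Subgroup.centralizer (V : Set G) with hPdef
  haveI : P.Normal := inferInstance
  have hPc : ∀ g ∈ P, ∀ v ∈ V, Commute g v := fun g hg v hv =>
    (Subgroup.mem_centralizer_iff.1 hg v hv).symm
  have hVP : V ≤ P := fun v hv => Subgroup.mem_centralizer_iff.2 fun w hw =>
    hP.comm_V hN hp hV hne hw hv
  have hsqP : ∀ g ∈ P, g * g = 1 := by
    intro g hg
    by_contra hg2
    have hg1 : g ≠ 1 := fun e => hg2 (by rw [e, mul_one])
    refine hne g hg1 fun v hv => ?_
    rcases eq_or_ne v 1 with rfl | hv1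
    · exact one_mem _
    refine hP.mem_of_commute hg1 (hPc g hg v hv) fun e => hg2 ?_
    rw [hP.orderOf_mem hN hp hV hne hv hv1] at e
    rw [← pow_two, ← e, pow_orderOf_eq_one]
  have hPE : Cfsg.IsElementaryAbelian 2 P :=
    ⟨⟨⟨fun a b => Subtype.ext (comm_of_sq hsqP a.2 b.2)⟩⟩, fun g hg => by rw [pow_two]; exact hsqP g hg⟩
  have hP1 : P ≠ ⊥ := fun e => hV1 (le_bot_iff.1 (e ▸ hVP))
  obtain ⟨-, hP4, -⟩ := hP.exists_invol hN hp hPE
    (fun g hg h => hne g hg (hVP.trans h)) hx hxp hP1
  have hPV : V = P := Subgroup.eq_of_le_of_card_ge hVP (by rw [hP4, h4])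
  -- the action on the nontrivial elements
  have hcentV : ∀ g : G, (∀ v ∈ V, Commute g v) → g ∈ V := fun g h =>
    hPV ▸ Subgroup.mem_centralizer_iff.2 fun v hv => (h v hv).symm
  have hx1 : x ≠ 1 := fun e => by rw [e, orderOf_one] at hx; exact hx.ne_one rfl
  have hxco : (orderOf x).Coprime 2 := (Nat.coprime_primes hx hp).2 hxp
  let f : G →* Equiv.Perm {v : V // v ≠ 1} :=
    { toFun := fun g => Equiv.subtypeEquiv (MulAut.conjNormal g).toEquiv
        (fun v => not_congr (map_eq_one_iff _ (MulAut.conjNormal g).injective).symm)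
      map_one' := by ext v; simp
      map_mul' := fun g h => by ext v; simp [mul_assoc] }
  have hker : f.ker = V := by
    ext g
    constructor
    · intro hg
      refine hcentV g fun v hv => ?_
      rcases eq_or_ne v 1 with rfl | hv1
      · exact Commute.one_right _
      have := congrArg (fun e => (((e ⟨⟨v, hv⟩, fun e => hv1 (congrArg Subtype.val e)⟩ : {v : V // v ≠ 1}) : V) : G))
        (MonoidHom.mem_ker.1 hg)
      exact mul_inv_eq_iff_eq_mul.1 (by simpa [f] using this)
    · intro hg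
      rw [MonoidHom.mem_ker]
      ext v
      show g * (v : G) * g⁻¹ = v
      rw [(hP.comm_V hN hp hV hne hg (v : V).2).eq, mul_inv_cancel_right]
  have hidx : Nat.card f.range ∣ 6 := by
    have h1 := Subgroup.card_subgroup_dvd_card f.range
    rw [Nat.card_perm, show Nat.card {v : V // v ≠ 1} = 3 by
      haveI : Fintype V := Fintype.ofFinite _
      rw [Nat.card_eq_fintype_card, Fintype.card_subtype_compl, Fintype.card_subtype_eq,
        ← Nat.card_eq_fintype_card, h4]] at h1
    exact h1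
  have hord : ∀ g : G, (orderOf g).Prime → g ∉ V → orderOf g ∣ Nat.card f.range := by
    intro g hg hgV
    haveI := Fact.mk hg
    have h1 : f g ≠ 1 := fun e => hgV (hker ▸ (MonoidHom.mem_ker.2 e))
    have h2 : orderOf (f g) = orderOf g :=
      orderOf_eq_prime (by rw [← map_pow, pow_orderOf_eq_one, map_one]) h1
    rw [← h2]
    exact Subgroup.orderOf_dvd_natCard f.range ⟨g, rfl⟩
  have hxV : x ∉ V := fun h => hxp (hP.orderOf_mem hN hp hV hne h hx1)
  have hx3 : orderOf x = 3 := by
    have h1 := (hord x hx hxV).trans hidx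
    have h2 := Nat.le_of_dvd (by norm_num) h1
    have h3 := hx.two_le
    generalize orderOf x = n at h1 h2 h3 hxp hx ⊢
    interval_cases n <;> first | rfl | exact absurd rfl hxp | (norm_num at h1 hx; done) | omega
  have huV : u ∉ V := fun h => hnc (hP.comm_V hN hp hV hne h hv₀)
  have hu1 : u ≠ 1 := fun e => huV (e ▸ one_mem _)
  have hu2 : orderOf u = 2 := orderOf_eq_prime (by rw [pow_two]; exact huu) hu1
  have h6 : Nat.card f.range = 6 := Nat.dvd_antisymm hidx (by
    have h1 := hord x hx hxV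
    have h2 := hord u (hu2.symm ▸ Nat.prime_two) huV
    rw [hx3] at h1
    rw [hu2] at h2
    exact Nat.Coprime.mul_dvd_of_dvd_of_dvd (by norm_num : Nat.Coprime 2 3) h2 h1)
  have h24 : Nat.card G = 24 := by
    have := Subgroup.card_eq_card_quotient_mul_card_subgroup f.ker
    rw [Nat.card_congr (QuotientGroup.quotientKerEquivRange f).toEquiv, h6, hker, h4] at this
    exact this
  haveI : Fact (Nat.Prime 3) := ⟨Nat.prime_three⟩
  have hmeet : ∀ (S : Sylow 3 G) (g : G), g ∈ Subgroup.normalizer ((S : Subgroup G) : Set G) →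
      g ∈ V → g = 1 := by
    intro S g hg hgV
    have hS : Nat.card (S : Subgroup G) = 3 := by
      rw [S.card_eq_multiplicity, h24,
        show (24 : ℕ).factorization 3 = 1 by
          rw [show (24 : ℕ) = 2 ^ 3 * 3 by norm_num,
            Nat.factorization_mul (by norm_num) (by norm_num), Nat.prime_two.factorization_pow,
            Nat.prime_three.factorization]
          simp, pow_one]
    obtain ⟨⟨y, hy⟩, hy1⟩ := exists_prime_orderOf_dvd_card' 3 (dvd_of_eq hS.symm)
    rw [Subgroup.orderOf_mk] at hy1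
    by_contra hg1
    have hy0 : y ≠ 1 := fun e => by rw [e, orderOf_one] at hy1; norm_num at hy1
    refine hy0 (hP.eq_one_of_coprime hN hp hV hne hgV hg1 ?_ (by rw [hy1]; norm_num))
    have h1 : g * y * g⁻¹ * y⁻¹ ∈ (S : Subgroup G) :=
      mul_mem ((Subgroup.mem_normalizer_iff.1 hg y).1 hy) (inv_mem hy)
    have h2 : g * y * g⁻¹ * y⁻¹ ∈ V := by
      rw [show g * y * g⁻¹ * y⁻¹ = g * (y * g⁻¹ * y⁻¹) by group]
      exact mul_mem hgV (Subgroup.Normal.conj_mem inferInstance _ (inv_mem hgV) y)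
    have h3 : g * y * g⁻¹ * y⁻¹ = 1 := by
      rw [← orderOf_eq_one_iff]
      refine Nat.eq_one_of_dvd_coprimes (show Nat.Coprime 3 4 by norm_num) ?_ ?_
      · rw [← hS]; exact Subgroup.orderOf_dvd_natCard _ h1
      · rw [← h4]; exact Subgroup.orderOf_dvd_natCard _ h2
    exact (mul_inv_eq_iff_eq_mul.1 (mul_inv_eq_one.1 h3)).symm
  have hS4 : Nat.card (Sylow 3 G) = 4 := by
    obtain ⟨S⟩ := (inferInstance : Nonempty (Sylow 3 G))
    set M := Subgroup.normalizer ((S : Subgroup G) : Set G) with hM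
    have h1 : Nat.card (Sylow 3 G) * Nat.card M = 24 := by
      rw [← h24, Sylow.card_eq_index_normalizer S]
      exact Subgroup.index_mul_card M
    have h2 : Nat.card M ≤ 6 := by
      rw [← h6]
      refine Nat.card_le_card_of_injective (fun m : M => f.rangeRestrict m) fun m m' e => ?_
      have e1 : (m : G)⁻¹ * m' ∈ V := hker ▸ (MonoidHom.eq_iff _).1 (congrArg Subtype.val e).symm
      exact Subtype.ext (inv_mul_eq_one.1 (hmeet S _ (mul_mem (inv_mem m.2) m'.2) e1))
    have h3 := card_sylow_modEq_one 3 G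
    have h4' : Nat.card (Sylow 3 G) ∣ 24 := Dvd.intro _ h1
    have h5 : 4 ≤ Nat.card (Sylow 3 G) := by nlinarith
    have h7 : Nat.card (Sylow 3 G) ∣ 8 := by
      refine Nat.Coprime.dvd_of_dvd_mul_right ?_ (show Nat.card (Sylow 3 G) ∣ 8 * 3 from h4')
      exact ((Nat.Prime.coprime_iff_not_dvd Nat.prime_three).2 fun hd =>
        Sylow.not_dvd_index _ (Sylow.card_eq_index_normalizer S ▸ hd |>.trans
          (Subgroup.index_dvd_of_le Subgroup.le_normalizer))).symm
    have h8 := Nat.le_of_dvd (by norm_num) h7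
    unfold Nat.ModEq at h3
    generalize Nat.card (Sylow 3 G) = t at h3 h5 h7 h8 ⊢
    interval_cases t <;> first | rfl | omega
  set φ := MulAction.toPermHom G (Sylow 3 G) with hφ
  have hφi : Function.Injective φ := by
    rw [← MonoidHom.ker_eq_bot_iff, Subgroup.eq_bot_iff_forall]
    intro g hg
    have hgN : ∀ S : Sylow 3 G, g ∈ Subgroup.normalizer ((S : Subgroup G) : Set G) := fun S => by
      refine Sylow.smul_eq_iff_mem_normalizer.1 ?_
      exact congrArg (fun e : Equiv.Perm (Sylow 3 G) => e S) (MonoidHom.mem_ker.1 hg)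
    obtain ⟨S⟩ := (inferInstance : Nonempty (Sylow 3 G))
    refine hmeet S g (hgN S) (hcentV g fun v hv => ?_)
    have h1 : g * v * g⁻¹ * v⁻¹ ∈ φ.ker := by
      rw [show g * v * g⁻¹ * v⁻¹ = g * (v * g⁻¹ * v⁻¹) by group]
      exact mul_mem hg (φ.normal_ker.conj_mem _ (inv_mem hg) v)
    have h1N : g * v * g⁻¹ * v⁻¹ ∈ Subgroup.normalizer ((S : Subgroup G) : Set G) := by
      refine Sylow.smul_eq_iff_mem_normalizer.1 ?_
      exact congrArg (fun e : Equiv.Perm (Sylow 3 G) => e S) (MonoidHom.mem_ker.1 h1)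
    have h2 : g * v * g⁻¹ * v⁻¹ = 1 := hmeet S _ h1N
      (mul_mem (Subgroup.Normal.conj_mem inferInstance v hv g) (inv_mem hv))
    exact mul_inv_eq_iff_eq_mul.1 (mul_inv_eq_one.1 h2)
  have hφb : Function.Bijective φ := by
    refine (Nat.bijective_iff_injective_and_card _).2 ⟨hφi, ?_⟩
    rw [h24, Nat.card_perm, hS4]; rfl
  exact ⟨(MulEquiv.ofBijective φ hφb).trans (Equiv.permCongrHom ((Finite.equivFinOfCardEq hS4)))⟩

end CfsgLib.Recog.PartitionType
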