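import Mathlib
import Cfsg.Agent.S3946

/-!
Finite groups with a nontrivial partition: components and first properties.

A partition invariant under conjugation is given by the map sending an element to its component.
-/

set_option autoImplicit false
set_option linter.style.haveILetI false
set_option linter.unusedSectionVars false

namespace CfsgLib.Recog.PartitionType

universe u

variable {G : Type u} [Group G] [Finite G]

/-- `K g` is the component of the non-identity element `g` in a conjugation invariant partition. -/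
structure Part (K : G → Subgroup G) : Prop where
  mem : ∀ g, g ≠ 1 → g ∈ K g
  eq : ∀ g h, g ≠ 1 → h ≠ 1 → h ∈ K g → K h = K g
  conj : ∀ c g x, g ≠ 1 → x ∈ K g → c * x * c⁻¹ ∈ K (c * g * c⁻¹)
  ne_top : ∀ g, g ≠ 1 → K g ≠ ⊤

/-- No component is its own normaliser. -/
def NoSelfNorm (K : G → Subgroup G) : Prop :=
  ∀ g : G, g ≠ 1 → ∃ y ∈ Subgroup.normalizer (K g : Set G), y ∉ K g

theorem orderOf_pos' (g : G) : 0 < orderOf g := orderOf_pos g

theorem conj_eq_one_iff {c g : G} : c * g * c⁻¹ = 1 ↔ g = 1 := by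
  rw [mul_inv_eq_one, mul_eq_left]

namespace Part

variable {K : G → Subgroup G} (hP : Part K)
include hP

theorem ne_bot {g : G} (hg : g ≠ 1) : K g ≠ ⊥ := fun h => hg (Subgroup.mem_bot.1 (h ▸ hP.mem g hg))

theorem eq_of_mem {g h a : G} (hg : g ≠ 1) (hh : h ≠ 1) (ha : a ≠ 1) (h1 : a ∈ K g) (h2 : a ∈ K h) :
    K g = K h := (hP.eq g a hg ha h1).symm.trans (hP.eq h a hh ha h2)

theorem eq_one_of_mem {g h a : G} (hg : g ≠ 1) (hh : h ≠ 1) (hne : K g ≠ K h) (h1 : a ∈ K g)
    (h2 : a ∈ K h) : a = 1 := by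
  by_contra ha
  exact hne (hP.eq_of_mem hg hh ha h1 h2)

/-- An element moving an element of a component into it normalises it. -/
theorem mem_normalizer {g c a : G} (hg : g ≠ 1) (ha : a ≠ 1) (h1 : a ∈ K g)
    (h2 : c * a * c⁻¹ ∈ K g) : c ∈ Subgroup.normalizer (K g : Set G) := by
  have hKa : K a = K g := hP.eq g a hg ha h1
  have hKc : K (c * a * c⁻¹) = K g := hP.eq g _ hg (fun e => ha (conj_eq_one_iff.1 e)) h2
  have hfwd : ∀ x ∈ K g, c * x * c⁻¹ ∈ K g := fun x hx =>
    hKc ▸ hP.conj c a x ha (hKa.symm ▸ hx)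
  refine Subgroup.mem_normalizer_iff.2 fun x => ⟨hfwd x, fun hx => ?_⟩
  have := hP.conj c⁻¹ (c * a * c⁻¹) (c * x * c⁻¹) (fun e => ha (conj_eq_one_iff.1 e)) (hKc.symm ▸ hx)
  rw [show c⁻¹ * (c * x * c⁻¹) * c⁻¹⁻¹ = x by group,
    show c⁻¹ * (c * a * c⁻¹) * c⁻¹⁻¹ = a by group, hKa] at this
  exact this

theorem mem_normalizer_of_commute {g c a : G} (hg : g ≠ 1) (ha : a ≠ 1) (h1 : a ∈ K g)
    (hc : Commute c a) : c ∈ Subgroup.normalizer (K g : Set G) :=
  hP.mem_normalizer hg ha h1 (by rwa [hc.eq, mul_inv_cancel_right])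

omit hP in
theorem conj_mem {g c x : G} (hc : c ∈ Subgroup.normalizer (K g : Set G)) (hx : x ∈ K g) :
    c * x * c⁻¹ ∈ K g := (Subgroup.mem_normalizer_iff.1 hc x).1 hx

/-- A power of an element lying in another component is trivial. -/
theorem pow_eq_one {g y : G} {j : ℕ} (hg : g ≠ 1) (hy : y ∉ K g) (h : y ^ j ∈ K g) : y ^ j = 1 := by
  by_contra hne
  have hy1 : y ≠ 1 := fun e => hy (e ▸ one_mem _)
  exact hy (hP.eq_of_mem hg hy1 hne h (pow_mem (hP.mem y hy1) j) ▸ hP.mem y hy1)

/-- Commuting elements of different components have the same order. -/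
theorem orderOf_eq {x y : G} (hx : x ≠ 1) (hc : Commute x y) (hy : y ∉ K x) :
    orderOf x = orderOf y := by
  have hy1 : y ≠ 1 := fun e => hy (e ▸ one_mem _)
  have key : ∀ a b : G, a ≠ 1 → b ≠ 1 → K a ≠ K b → Commute a b → b ^ orderOf a = 1 := by
    intro a b ha hb hne hab
    by_contra h
    have hab1 : a * b ≠ 1 := fun e => hne
      (hP.eq_of_mem ha hb ha (hP.mem a ha) ((eq_inv_of_mul_eq_one_left e).symm ▸ inv_mem (hP.mem b hb)))
    have h2 : b ^ orderOf a ∈ K (a * b) := by
      have := pow_mem (hP.mem _ hab1) (orderOf a)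
      rwa [hab.mul_pow, pow_orderOf_eq_one, one_mul] at this
    have hKe : K b = K (a * b) :=
      hP.eq_of_mem hb hab1 h (pow_mem (hP.mem b hb) _) h2
    refine hne (hP.eq_of_mem ha hb ha (hP.mem a ha) ?_)
    have := mul_mem (hKe.symm ▸ hP.mem _ hab1 : a * b ∈ K b) (inv_mem (hP.mem b hb))
    rwa [mul_inv_cancel_right] at this
  have hne : K x ≠ K y := fun e => hy (e ▸ hP.mem y hy1)
  exact Nat.dvd_antisymm (orderOf_dvd_of_pow_eq_one (key y x hy1 hx hne.symm hc.symm))
    (orderOf_dvd_of_pow_eq_one (key x y hx hy1 hne hc))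

/-- That order is a prime. -/
theorem prime_orderOf {x y : G} (hx : x ≠ 1) (hc : Commute x y) (hy : y ∉ K x) :
    (orderOf x).Prime := by
  refine Nat.prime_def_minFac.2 ⟨?_, ?_⟩
  · have h1 : orderOf x ≠ 1 := fun e => hx (orderOf_eq_one_iff.1 e)
    have := orderOf_pos' x
    omega
  · by_contra hne
    set d := (orderOf x).minFac with hd
    have hdd : d ∣ orderOf x := Nat.minFac_dvd _
    have h1 : orderOf x ≠ 1 := fun e => hx (orderOf_eq_one_iff.1 e)
    have hdp : d.Prime := Nat.minFac_prime h1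
    have ho : orderOf (x ^ d) = orderOf x / d := by
      rw [orderOf_pow' x hdp.ne_zero, Nat.gcd_eq_right hdd]
    have hxd : x ^ d ≠ 1 := fun e => hne (Nat.dvd_antisymm hdd (orderOf_dvd_of_pow_eq_one e))
    have hy' : y ∉ K (x ^ d) := by
      rwa [hP.eq x _ hx hxd (pow_mem (hP.mem x hx) d)]
    have := hP.orderOf_eq hxd (hc.pow_left d) hy'
    rw [ho, ← hP.orderOf_eq hx hc hy] at this
    exact (Nat.div_lt_self (orderOf_pos' x) hdp.one_lt).ne this

/-- Two commuting elements of different orders share their component. -/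
theorem mem_of_commute {x y : G} (hx : x ≠ 1) (hc : Commute x y) (ho : orderOf x ≠ orderOf y) :
    y ∈ K x := by
  by_contra hy
  exact ho (hP.orderOf_eq hx hc hy)

/-- An element normalising a component, outside it, of order `n` in the quotient: the whole coset has
order dividing `n`. -/
theorem coset_pow {g y h : G} {n : ℕ} (hg : g ≠ 1) (hyN : y ∈ Subgroup.normalizer (K g : Set G))
    (hy : y ∉ K g) (hn : y ^ n ∈ K g) (hh : h ∈ K g) : (h * y) ^ n = 1 := by
  refine hP.pow_eq_one hg (fun e => hy ?_) ?_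
  · have := mul_mem (inv_mem hh) e
    rwa [inv_mul_cancel_left] at this
  · clear hy
    have : ∀ m : ℕ, (h * y) ^ m * (y ^ m)⁻¹ ∈ K g := by
      intro m
      induction m with
      | zero => simp
      | succ m ih =>
        rw [pow_succ' (h * y) m, pow_succ' y m, mul_inv_rev,
          show h * y * (h * y) ^ m * ((y ^ m)⁻¹ * y⁻¹) = h * (y * ((h * y) ^ m * (y ^ m)⁻¹) * y⁻¹) by group]
        exact mul_mem hh (conj_mem hyN ih)
    have := mul_mem (this n) hn
    rwa [inv_mul_cancel_right] at this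

/-- An involution normalising a component from outside inverts it. -/
theorem inverts {g y h : G} (hg : g ≠ 1) (hyN : y ∈ Subgroup.normalizer (K g : Set G))
    (hy : y ∉ K g) (hy2 : y * y = 1) (hh : h ∈ K g) : y * h * y⁻¹ = h⁻¹ := by
  have h1 := hP.coset_pow (n := 2) hg hyN hy (by rw [pow_two, hy2]; exact one_mem _) hh
  rw [pow_two] at h1
  have h2 : y⁻¹ = y := inv_eq_of_mul_eq_one_left hy2
  rw [h2]
  refine eq_inv_of_mul_eq_one_right ?_
  rw [← h1]; group

theorem exists_prime_normalizing {g : G} (hg : g ≠ 1)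
    (hns : ∃ y ∈ Subgroup.normalizer (K g : Set G), y ∉ K g) :
    ∃ w ∈ Subgroup.normalizer (K g : Set G), w ∉ K g ∧ (orderOf w).Prime := by
  obtain ⟨y, hyN, hy⟩ := hns
  have h1 : orderOf y ≠ 1 := fun e => hy (orderOf_eq_one_iff.1 e ▸ one_mem _)
  obtain ⟨p, hp, hdvd⟩ := Nat.exists_prime_and_dvd h1
  have ho : orderOf (y ^ (orderOf y / p)) = p := orderOf_pow_orderOf_div (orderOf_pos' y).ne' hdvd
  refine ⟨y ^ (orderOf y / p), pow_mem hyN _, fun e => ?_, by rw [ho]; exact hp⟩
  rw [hP.pow_eq_one hg hy e, orderOf_one] at ho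
  exact hp.ne_one ho.symm

/-- A component which is not its own normaliser is nilpotent. -/
theorem isNilpotent {g : G} (hg : g ≠ 1)
    (hns : ∃ y ∈ Subgroup.normalizer (K g : Set G), y ∉ K g) : Group.IsNilpotent (K g) := by
  obtain ⟨w, hwN, hw, hwp⟩ := hP.exists_prime_normalizing hg hns
  haveI : Fact (orderOf w).Prime := ⟨hwp⟩
  have hcp : ∀ h ∈ K g, (h * w) ^ orderOf w = 1 := fun h hh =>
    hP.coset_pow hg hwN hw (by rw [pow_orderOf_eq_one]; exact one_mem _) hh
  let α : MulAut (K g) :=
    { toFun := fun x => ⟨w * x * w⁻¹, conj_mem hwN x.2⟩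
      invFun := fun x => ⟨w⁻¹ * x * w, by simpa using conj_mem (inv_mem hwN) x.2⟩
      left_inv := fun x => by ext; simp [mul_assoc]
      right_inv := fun x => by ext; simp [mul_assoc]
      map_mul' := fun x y => by ext; simp [mul_assoc] }
  have hpow : ∀ (i : ℕ) (x : K g), ((α ^ i) x : G) = w ^ i * x * (w ^ i)⁻¹ := by
    intro i
    induction i with
    | zero => intro x; simp
    | succ i ih =>
      intro x
      rw [pow_succ', MulAut.mul_apply]
      show w * ((α ^ i) x : G) * w⁻¹ = _
      rw [ih, pow_succ']; group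
  by_cases hα : α = 1
  · refine (show IsPGroup (orderOf w) (K g) from fun x => ⟨1, ?_⟩).isNilpotent
    have hc : Commute (x : G) w := by
      have : w * x * w⁻¹ = x := congrArg Subtype.val (DFunLike.congr_fun hα x)
      exact (mul_inv_eq_iff_eq_mul.1 this).symm
    have := hcp x x.2
    rw [hc.mul_pow, pow_orderOf_eq_one, mul_one] at this
    rw [pow_one]
    exact Subtype.ext this
  · have ho : orderOf α = orderOf w := by
      refine orderOf_eq_prime ?_ hα
      ext x
      rw [hpow, pow_orderOf_eq_one]; simp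
    refine Cfsg.Agent.S3946.result α (ho ▸ hwp) fun x => ?_
    rw [ho]
    have : ∀ n : ℕ, ((((List.range n).map fun i => (α ^ i) x).prod : K g) : G)
        = ((x : G) * w) ^ n * (w ^ n)⁻¹ := by
      intro n
      induction n with
      | zero => simp
      | succ n ih =>
        rw [List.range_succ, List.map_append, List.prod_append, List.map_singleton, List.prod_singleton,
          Subgroup.coe_mul, ih, hpow, pow_succ _ n, pow_succ w n]
        group
    apply Subtype.ext
    rw [this, hcp x x.2, pow_orderOf_eq_one, inv_one, mul_one]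
    rfl

end Part

end CfsgLib.Recog.PartitionType
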