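import Mathlib
import Cfsg.Prelude.Def_Solvable
import Cfsg.Agent.Lib.Base.Nilpotent
import Cfsg.Agent.Lib.Recog.PartitionType.Basic

/-!
Partitions without self-normalising components and with a normal component: the group is a Frobenius
group, or its Hughes subgroup for some prime is proper.
-/

set_option autoImplicit false
set_option linter.style.haveILetI false
set_option linter.unusedSectionVars false

namespace CfsgLib.Recog.PartitionType

universe u

open Subgroup Finset
open scoped IsMulCommutative Pointwise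

section Norm

variable {Q : Type*} [Group Q] [Finite Q] {E : Type*} [Ring E]

/-- If a subgroup has zero sum and every element of one coset of order `r` in its normaliser has zero
norm, the order of the subgroup is zero in the ring. -/
theorem card_cast_eq_zero (ρ : Q →* E) (A : Subgroup Q) [Fintype A] (hA : ∑ a : A, ρ (a : Q) = 0) {w : Q}
    (hwN : w ∈ Subgroup.normalizer (A : Set Q)) {r : ℕ} (hr : r.Prime)
    (hpow : ∀ k ∈ A, (k * w) ^ r = 1) (hnorm : ∀ k ∈ A, ∑ i ∈ range r, ρ ((k * w) ^ i) = 0) :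
    (Nat.card A : E) = 0 := by
  classical
  haveI : Fact r.Prime := ⟨hr⟩
  have hmem : ∀ k ∈ A, ∀ i : ℕ, (k * w) ^ i * (w ^ i)⁻¹ ∈ A := by
    intro k hk i
    induction i with
    | zero => simp
    | succ i ih =>
      rw [pow_succ' (k * w) i, pow_succ' w i, mul_inv_rev,
        show k * w * (k * w) ^ i * ((w ^ i)⁻¹ * w⁻¹) = k * (w * ((k * w) ^ i * (w ^ i)⁻¹) * w⁻¹) by group]
      exact mul_mem hk ((Subgroup.mem_normalizer_iff.1 hwN _).1 ih)
  have hterm : ∀ i ∈ range r, i ≠ 0 → ∑ k : A, ρ (((k : Q) * w) ^ i) = 0 := by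
    intro i hi hi0
    let f : A → A := fun k => ⟨((k : Q) * w) ^ i * (w ^ i)⁻¹, hmem k k.2 i⟩
    have hcop : Nat.Coprime i r := by
      refine Nat.Coprime.symm ((hr.coprime_iff_not_dvd).2 fun h => ?_)
      exact absurd (Nat.le_of_dvd (Nat.pos_of_ne_zero hi0) h) (not_le.2 (Finset.mem_range.1 hi))
    have hinj : Function.Injective f := by
      intro k l hkl
      have h1 : ((k : Q) * w) ^ i = ((l : Q) * w) ^ i := mul_right_cancel (congrArg Subtype.val hkl)
      obtain ⟨m, hm⟩ := exists_pow_eq_self_of_coprime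
        (hcop.coprime_dvd_right (orderOf_dvd_of_pow_eq_one (hpow k k.2)))
      obtain ⟨j, hj⟩ : ∃ j : ℕ, i * j ≡ 1 [MOD r] :=
        (Nat.exists_mul_mod_eq_one_of_coprime hcop hr.one_lt).imp fun j hj => by
          rw [Nat.ModEq, hj.2, Nat.mod_eq_of_lt hr.one_lt]
      have hback : ∀ x : Q, x ^ r = 1 → (x ^ i) ^ j = x := fun x hx => by
        rw [← pow_mul, pow_eq_pow_mod (i * j) hx, hj, Nat.mod_eq_of_lt hr.one_lt, pow_one]
      have h2 : (k : Q) * w = (l : Q) * w := by
        rw [← hback _ (hpow k k.2), ← hback _ (hpow l l.2), h1]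
      exact Subtype.ext (mul_right_cancel h2)
    have hbij : Function.Bijective f := Finite.injective_iff_bijective.1 hinj
    calc ∑ k : A, ρ (((k : Q) * w) ^ i) = ∑ k : A, ρ (f k : Q) * ρ (w ^ i) := by
          refine Finset.sum_congr rfl fun k _ => ?_
          rw [← map_mul]; simp [f]
      _ = (∑ k : A, ρ (f k : Q)) * ρ (w ^ i) := (Finset.sum_mul _ _ _).symm
      _ = 0 := by
          rw [hbij.sum_comp (fun a : A => ρ (a : Q)), hA, zero_mul]
  calc (Nat.card A : E) = ∑ i ∈ range r, ∑ k : A, ρ (((k : Q) * w) ^ i) := by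
        rw [Finset.sum_eq_single_of_mem 0 (Finset.mem_range.2 hr.pos) hterm]
        simp [Nat.card_eq_fintype_card]
    _ = 0 := by
        rw [Finset.sum_comm]
        exact Finset.sum_eq_zero fun k _ => hnorm k k.2

/-- The sum over the powers of an element of order `r`. -/
theorem sum_zpowers (ρ : Q →* E) {a : Q} [Fintype (zpowers a)] :
    ∑ x : zpowers a, ρ (x : Q) = ∑ i ∈ range (orderOf a), ρ (a ^ i) := by
  classical
  rw [← Fin.sum_univ_eq_sum_range]
  exact (Fintype.sum_equiv (finEquivZPowers (isOfFinOrder_of_finite a)) _ _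
    (fun i => by simp [finEquivZPowers_apply])).symm

/-- No finite group has all non-identity elements of prime order, at least two primes, and for every prime
a representation in some other characteristic killing the norms of all non-identity elements. -/
theorem false_of_norm_reps (hprime : ∀ x : Q, x ≠ 1 → (orderOf x).Prime)
    (htwo : ∃ a b : Q, a ≠ 1 ∧ b ≠ 1 ∧ orderOf a ≠ orderOf b)
    (hrep : ∀ r : ℕ, r.Prime → ∃ (E : Type*) (_ : Ring E) (ρ : Q →* E), (r : E) ≠ 0 ∧
      ∀ x : Q, x ≠ 1 → ∑ i ∈ range (orderOf x), ρ (x ^ i) = 0) : False := by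
  classical
  letI := Fintype.ofFinite Q
  obtain ⟨a, b, ha, hb, hab⟩ := htwo
  have hself : ∀ x : Q, ∀ r : ℕ, r.Prime → x ^ r = 1 → x ≠ 1 → orderOf x = r := fun x r hr hx hx1 =>
    haveI : Fact r.Prime := ⟨hr⟩
    orderOf_eq_prime hx hx1
  -- no two commuting elements of the same order generate a non-cyclic group
  have hcyc : ∀ x y : Q, x ≠ 1 → y ≠ 1 → Commute x y → orderOf x = orderOf y → x ∈ zpowers y := by
    intro x y hx hy hc hxy
    by_contra hxy'
    obtain ⟨E, iE, ρ, hE, hnorm⟩ := hrep _ (hprime y hy)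
    refine hE ?_
    have hne : ∀ k ∈ zpowers y, k * x ≠ 1 := fun k hk e => hxy' (by
      rw [eq_inv_of_mul_eq_one_right e]; exact inv_mem hk)
    have hpow : ∀ k ∈ zpowers y, (k * x) ^ orderOf y = 1 := by
      intro k hk
      obtain ⟨j, rfl⟩ := Subgroup.mem_zpowers_iff.1 hk
      rw [((hc.zpow_right j).symm).mul_pow, ← zpow_natCast, ← zpow_mul, mul_comm, zpow_mul,
        zpow_natCast, pow_orderOf_eq_one, one_zpow, one_mul, ← hxy, pow_orderOf_eq_one]
    rw [← Nat.card_zpowers y]
    refine card_cast_eq_zero ρ (zpowers y) (by rw [sum_zpowers, hnorm y hy]) (w := x) ?_ (hprime y hy)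
      hpow fun k hk => ?_
    · refine Subgroup.mem_normalizer_iff.2 fun k => ?_
      constructor
      · intro hk
        obtain ⟨j, rfl⟩ := Subgroup.mem_zpowers_iff.1 hk
        rw [(hc.zpow_right j).eq, mul_inv_cancel_right]; exact zpow_mem (mem_zpowers y) j
      · intro hk
        obtain ⟨j, hj⟩ := Subgroup.mem_zpowers_iff.1 hk
        have : k = x⁻¹ * y ^ j * x := by rw [hj]; group
        rw [this, (hc.inv_left.zpow_right j).eq, inv_mul_cancel_right]
        exact zpow_mem (mem_zpowers y) j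
    · have := hnorm (k * x) (hne k hk)
      rwa [hself _ _ (hprime y hy) (hpow k hk) (hne k hk)] at this
  haveI : IsZGroup Q := ⟨fun p hp P => by
    haveI : Fact p.Prime := ⟨hp⟩
    rcases subsingleton_or_nontrivial (P : Subgroup Q) with h | h
    · exact isCyclic_of_subsingleton
    haveI := P.2.center_nontrivial
    obtain ⟨z, hz⟩ := exists_ne (1 : center (P : Subgroup Q))
    set z' : Q := ((z : (P : Subgroup Q)) : Q) with hz'
    have hz1 : z' ≠ 1 := fun e => hz (Subtype.ext (Subtype.ext e))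
    have hord : ∀ x : (P : Subgroup Q), (x : Q) ≠ 1 → orderOf (x : Q) = p := fun x hx => by
      obtain ⟨k, hk⟩ := P.2 x
      have h1 : orderOf (x : Q) ∣ p ^ k :=
        orderOf_dvd_of_pow_eq_one (by simpa using congrArg Subtype.val hk)
      exact (Nat.prime_dvd_prime_iff_eq (hprime _ hx) hp).1 ((hprime _ hx).dvd_of_dvd_pow h1)
    refine ⟨⟨(z : (P : Subgroup Q)), fun x => ?_⟩⟩
    by_cases hx : (x : Q) = 1
    · exact ⟨0, Subtype.ext (by simp [hx])⟩
    have hc : Commute (x : Q) z' := congrArg Subtype.val (Subgroup.mem_center_iff.1 z.2 x)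
    obtain ⟨j, hj⟩ := Subgroup.mem_zpowers_iff.1
      (hcyc x z' hx hz1 hc ((hord x hx).trans (hord _ hz1).symm))
    exact ⟨j, Subtype.ext (by simpa using hj)⟩⟩
  haveI := IsZGroup.isCyclic_commutator Q
  obtain ⟨c, hc⟩ := IsCyclic.exists_generator (α := commutator Q)
  have hR : zpowers (c : Q) = commutator Q := by
    refine le_antisymm (zpowers_le.2 c.2) fun x hx => ?_
    obtain ⟨j, hj⟩ := Subgroup.mem_zpowers_iff.1 (hc ⟨x, hx⟩)
    exact ⟨j, by simpa using congrArg Subtype.val hj⟩
  have hc1 : (c : Q) ≠ 1 := by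
    intro e
    have hbot : commutator Q = ⊥ := by rw [← hR, e, zpowers_one_eq_bot]
    have hcm : Commute a b := by
      have := Subgroup.commutator_mem_commutator (Subgroup.mem_top a) (Subgroup.mem_top b)
      rw [← commutator_def, hbot, Subgroup.mem_bot] at this
      exact commutatorElement_eq_one_iff_commute.1 this
    have hcop : (orderOf a).Coprime (orderOf b) :=
      (Nat.coprime_primes (hprime a ha) (hprime b hb)).2 hab
    have h1 : orderOf (a * b) = orderOf a * orderOf b := hcm.orderOf_mul_eq_mul_orderOf_of_coprime hcop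
    by_cases hab1 : a * b = 1
    · rw [hab1, orderOf_one] at h1
      exact (hprime a ha).ne_one (Nat.eq_one_of_mul_eq_one_right h1.symm)
    · have := hprime _ hab1
      rw [h1] at this
      exact (Nat.prime_mul_iff.1 this).elim (fun h => (hprime b hb).ne_one h.2)
        fun h => (hprime a ha).ne_one h.2
  obtain ⟨y, hy, hyc⟩ : ∃ y : Q, y ≠ 1 ∧ orderOf y ≠ orderOf (c : Q) := by
    by_cases h : orderOf a = orderOf (c : Q)
    · exact ⟨b, hb, fun e => hab (h.trans e.symm)⟩
    · exact ⟨a, ha, h⟩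
  set r := orderOf (c : Q) with hr
  have hrp : r.Prime := hprime _ hc1
  obtain ⟨E, iE, ρ, hE, hnorm⟩ := hrep r hrp
  refine hE ?_
  rw [hr, ← Nat.card_zpowers (c : Q), hR]
  haveI : Fintype (commutator Q) := Fintype.ofFinite _
  have hcR : ∀ k ∈ commutator Q, k ^ r = 1 := fun k hk => by
    obtain ⟨j, rfl⟩ := Subgroup.mem_zpowers_iff.1 (hR.symm ▸ hk)
    rw [← zpow_natCast, ← zpow_mul, mul_comm, zpow_mul, zpow_natCast, pow_orderOf_eq_one, one_zpow]
  have hyR : y ∉ commutator Q := fun h =>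
    hyc (hself y r hrp (hcR y h) hy)
  have hsum : ∑ x : commutator Q, ρ (x : Q) = 0 := by
    haveI : Fintype (zpowers (c : Q)) := Fintype.ofFinite _
    rw [← hnorm _ hc1, ← sum_zpowers ρ]
    exact Fintype.sum_equiv (MulEquiv.subgroupCongr hR.symm).toEquiv _ _ fun x => rfl
  have hne : ∀ k ∈ commutator Q, k * y ≠ 1 := fun k hk e => hyR (by
    rw [eq_inv_of_mul_eq_one_right e]; exact inv_mem hk)
  have ho : ∀ k ∈ commutator Q, orderOf (k * y) = orderOf y := by
    intro k hk
    set π := QuotientGroup.mk' (commutator Q)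
    have hk1 : π (k * y) = π y := by
      rw [map_mul, show π k = 1 from (QuotientGroup.eq_one_iff k).2 hk, one_mul]
    have h1 : π y ≠ 1 := fun e => hyR ((QuotientGroup.eq_one_iff y).1 e)
    have e2 := ((Nat.dvd_prime (hprime y hy)).1 (orderOf_map_dvd π y)).resolve_left
      (fun e => h1 (orderOf_eq_one_iff.1 e))
    have e1 := hk1 ▸ orderOf_map_dvd π (k * y)
    rw [e2] at e1
    exact ((Nat.prime_dvd_prime_iff_eq (hprime y hy) (hprime _ (hne k hk))).1 e1).symm
  refine card_cast_eq_zero ρ (commutator Q) hsum (w := y) ?_ (hprime y hy)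
    (fun k hk => by rw [← ho k hk, pow_orderOf_eq_one]) fun k hk => ?_
  · rw [Subgroup.normalizer_eq_top]; exact Subgroup.mem_top y
  · have := hnorm (k * y) (hne k hk)
    rwa [ho k hk] at this

end Norm

variable {G : Type u} [Group G] [Finite G]

/-- A normal subgroup containing the centralisers of all its non-identity elements, which is neither
trivial nor the whole group, has a Frobenius complement. -/
theorem exists_frobeniusComplement (N : Subgroup G) [hN : N.Normal] (hbot : N ≠ ⊥) (htop : N ≠ ⊤)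
    (hC : ∀ h ∈ N, h ≠ 1 → ∀ y, Commute y h → y ∈ N) :
    ∃ H : Subgroup G, Cfsg.IsFrobeniusComplement H := by
  have hcop : Nat.Coprime (Nat.card N) N.index := by
    refine Nat.coprime_of_dvd fun p hp h1 h2 => ?_
    haveI : Fact p.Prime := ⟨hp⟩
    obtain ⟨x, hx⟩ := exists_prime_orderOf_dvd_card' (G := N) p h1
    have hxp : IsPGroup p (zpowers (x : G)) := IsPGroup.of_card (n := 1)
      (by rw [Nat.card_zpowers, orderOf_coe, hx, pow_one])
    obtain ⟨P, hP⟩ := hxp.exists_le_sylow
    have hne : (N.subgroupOf P) ≠ ⊥ := by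
      intro e
      have h3 : (⟨x, hP (mem_zpowers _)⟩ : (P : Subgroup G)) ∈ N.subgroupOf P := x.2
      rw [e, Subgroup.mem_bot] at h3
      have : (x : G) = 1 := congrArg Subtype.val h3
      rw [← orderOf_coe, this, orderOf_one] at hx
      exact hp.ne_one hx.symm
    haveI : Group.IsNilpotent (P : Subgroup G) := P.2.isNilpotent
    obtain ⟨⟨z, hz⟩, hz1⟩ := (Subgroup.ne_bot_iff_exists_ne_one).1
      (CfsgLib.Base.inf_center_ne_bot_of_isNilpotent hne)
    have hle : (P : Subgroup G) ≤ N := fun y hy =>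
      hC (z : G) hz.1 (fun e => hz1 (Subtype.ext (Subtype.ext e))) y
        (congrArg Subtype.val (Subgroup.mem_center_iff.1 hz.2 ⟨y, hy⟩))
    exact P.not_dvd_index (h2.trans (Subgroup.index_dvd_of_le hle))
  obtain ⟨H, hH⟩ := Subgroup.exists_right_complement'_of_coprime hcop
  refine ⟨H, fun e => htop ?_, fun e => hbot ?_, fun g hg => ?_⟩
  · rw [← Subgroup.isComplement'_bot_right]; rwa [e] at hH
  · rw [← Subgroup.isComplement'_top_right]; rwa [e] at hH
  obtain ⟨⟨n, k⟩, hnk⟩ := hH.surjective g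
  have hn1 : (n : G) ≠ 1 := fun e => hg (by rw [← hnk]; simp [e])
  rw [eq_bot_iff]
  intro x hxx
  obtain ⟨hx, hx'⟩ := Subgroup.mem_inf.1 hxx
  rw [Subgroup.mem_bot]
  by_contra hx1
  have hyH : (n : G) ∈ N := n.2
  rw [Subgroup.mem_pointwise_smul_iff_inv_smul_mem] at hx'
  simp only [← map_inv, MulAut.smul_def, MulAut.conj_apply, inv_inv] at hx'
  rw [← hnk] at hx'
  have hy : (n : G)⁻¹ * x * n ∈ H := by
    have := mul_mem (mul_mem k.2 hx') (inv_mem k.2)
    convert this using 1
    simp only [mul_inv_rev]; group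
  have h1 : (n : G)⁻¹ * x * n * x⁻¹ ∈ N := by
    have := mul_mem (inv_mem n.2) (hN.conj_mem _ n.2 x)
    convert this using 1; group
  have h2 : (n : G)⁻¹ * x * n * x⁻¹ = 1 := by
    have : (n : G)⁻¹ * x * n * x⁻¹ ∈ N ⊓ H := Subgroup.mem_inf.2 ⟨h1, mul_mem hy (inv_mem hx)⟩
    rwa [hH.disjoint.eq_bot, Subgroup.mem_bot] at this
  have h3 : x ∈ N := hC n n.2 hn1 x (by
    rw [mul_inv_eq_one, mul_assoc, inv_mul_eq_iff_eq_mul] at h2
    exact h2)
  exact hx1 (by
    have : x ∈ N ⊓ H := Subgroup.mem_inf.2 ⟨h3, hx⟩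
    rwa [hH.disjoint.eq_bot, Subgroup.mem_bot] at this)

/-- The elements killed by `p` in the centre of a subgroup. -/
def omegaCenter (N : Subgroup G) (p : ℕ) : Subgroup G where
  carrier := {v | v ∈ N ∧ (∀ x ∈ N, Commute x v) ∧ v ^ p = 1}
  one_mem' := ⟨one_mem _, fun _ _ => Commute.one_right _, one_pow _⟩
  mul_mem' := fun {a b} ha hb => ⟨mul_mem ha.1 hb.1, fun x hx => (ha.2.1 x hx).mul_right (hb.2.1 x hx),
    by rw [(hb.2.1 a ha.1).mul_pow, ha.2.2, hb.2.2, one_mul]⟩
  inv_mem' := fun {a} ha => ⟨inv_mem ha.1, fun x hx => (ha.2.1 x hx).inv_right,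
    by rw [inv_pow, ha.2.2, inv_one]⟩

instance omegaCenter_normal (N : Subgroup G) [hN : N.Normal] (p : ℕ) : (omegaCenter N p).Normal :=
  ⟨fun v hv c => ⟨hN.conj_mem v hv.1 c, fun x hx => by
    have := (hv.2.1 _ (hN.conj_mem x hx c⁻¹)).map (MulAut.conj c).toMonoidHom
    simp only [MulEquiv.toMonoidHom_eq_coe, MonoidHom.coe_coe, MulAut.conj_apply] at this
    convert this using 1
    group, by rw [conj_pow, hv.2.2, mul_one, mul_inv_cancel]⟩⟩

instance omegaCenter_comm (N : Subgroup G) (p : ℕ) : IsMulCommutative (omegaCenter N p) :=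
  ⟨⟨fun a b => Subtype.ext (b.2.2.1 a a.2.1).eq⟩⟩

/-- Conjugation on `omegaCenter N p` as a homomorphism to an endomorphism ring. -/
noncomputable def actEnd (N : Subgroup G) [N.Normal] (p : ℕ) :
    G →* AddMonoid.End (Additive (omegaCenter N p)) where
  toFun c := (MonoidHom.toAdditive (MulAut.conjNormal c : MulAut (omegaCenter N p)).toMonoidHom :
    AddMonoid.End (Additive (omegaCenter N p)))
  map_one' := by
    refine DFunLike.ext _ _ fun v => ?_
    show Additive.ofMul (MulAut.conjNormal (1 : G) (Additive.toMul v)) = v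
    rw [map_one]; rfl
  map_mul' c d := by
    refine DFunLike.ext _ _ fun v => ?_
    show Additive.ofMul (MulAut.conjNormal (c * d) (Additive.toMul v))
      = Additive.ofMul (MulAut.conjNormal c (MulAut.conjNormal d (Additive.toMul v)))
    rw [map_mul]; rfl

theorem actEnd_val (N : Subgroup G) [N.Normal] (p : ℕ) (c : G) (v : Additive (omegaCenter N p)) :
    ((Additive.toMul (actEnd N p c v) : omegaCenter N p) : G) = c * (Additive.toMul v : omegaCenter N p) * c⁻¹ := rfl

theorem exists_prime_elt_omegaCenter (N : Subgroup G) [Group.IsNilpotent N] {p : ℕ} (hp : p.Prime)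
    (h : p ∣ Nat.card N) : ∃ v ∈ omegaCenter N p, v ≠ 1 := by
  haveI : Fact p.Prime := ⟨hp⟩
  obtain ⟨P⟩ : Nonempty (Sylow p N) := inferInstance
  have hne : (P : Subgroup N) ≠ ⊥ := P.ne_bot_of_dvd_card h
  obtain ⟨⟨z, hz⟩, hz1⟩ := (Subgroup.ne_bot_iff_exists_ne_one).1
    (CfsgLib.Base.inf_center_ne_bot_of_isNilpotent hne)
  have hz1' : z ≠ 1 := fun e => hz1 (Subtype.ext e)
  obtain ⟨k, hk⟩ := P.2 ⟨z, hz.1⟩
  have hk' : z ^ p ^ k = 1 := by simpa using congrArg Subtype.val hk
  have hd : p ∣ orderOf z := by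
    obtain ⟨i, -, hi⟩ := (Nat.dvd_prime_pow hp).1 (orderOf_dvd_of_pow_eq_one hk')
    rcases i with _ | i
    · exact absurd (orderOf_eq_one_iff.1 (by simpa using hi)) hz1'
    · rw [hi, pow_succ]; exact dvd_mul_left _ _
  set v := z ^ (orderOf z / p) with hv
  have ho : orderOf v = p := orderOf_pow_orderOf_div (orderOf_pos z).ne' hd
  have hvc : v ∈ center N := pow_mem hz.2 _
  refine ⟨v, ⟨v.2, fun x hx => congrArg Subtype.val (Subgroup.mem_center_iff.1 hvc ⟨x, hx⟩), ?_⟩, ?_⟩
  · rw [← Subgroup.coe_pow, ← ho, pow_orderOf_eq_one]; rfl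
  · intro e
    rw [OneMemClass.coe_eq_one.1 e, orderOf_one] at ho
    exact hp.ne_one ho.symm

/-- The normal component case. -/
theorem of_normal_component {K : G → Subgroup G} (hP : Part K) (hN : NoSelfNorm K) {g₀ : G}
    (hg₀ : g₀ ≠ 1) (hn : (K g₀).Normal) :
    (∃ p : ℕ, p.Prime ∧ Subgroup.closure {g : G | g ^ p ≠ 1} ≠ ⊤) ∨
      ∃ H : Subgroup G, Cfsg.IsFrobeniusComplement H := by
  classical
  letI := Fintype.ofFinite G
  set N := K g₀ with hNdef
  haveI := hn
  haveI : Group.IsNilpotent N := hP.isNilpotent hg₀ (hN g₀ hg₀)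
  have hKeq : ∀ x ∈ N, x ≠ 1 → K x = N := fun x hx hx1 => hP.eq g₀ x hg₀ hx1 hx
  by_cases hC : ∀ h ∈ N, h ≠ 1 → ∀ y, Commute y h → y ∈ N
  · exact Or.inr (exists_frobeniusComplement N (hP.ne_bot hg₀) (hP.ne_top g₀ hg₀) hC)
  push Not at hC
  obtain ⟨h, hh, hh1, y, hyh, hy⟩ := hC
  have hy' : y ∉ K h := by rwa [hKeq h hh hh1]
  have hp : (orderOf h).Prime := hP.prime_orderOf hh1 hyh.symm hy'
  have hyo : orderOf h = orderOf y := hP.orderOf_eq hh1 hyh.symm hy'
  set p := orderOf h with hpdef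
  left
  refine ⟨p, hp, fun htop => ?_⟩
  suffices hall : ∀ g : G, g ∉ N → g ^ p = 1 by
    refine hP.ne_top g₀ hg₀ (top_le_iff.1 (htop ▸ ?_))
    exact (Subgroup.closure_le _).2 fun g hg => by_contra fun hgN => hg (hall g hgN)
  -- norms
  have hnorm : ∀ (s : ℕ) (u : G), u ∉ N → ∀ n : ℕ, u ^ n = 1 →
      ∑ i ∈ range n, actEnd N s (u ^ i) = 0 := by
    intro s u hu n hun
    refine DFunLike.ext _ _ fun v => ?_
    apply Additive.toMul.injective
    apply Subtype.ext
    have hrec : ∀ m : ℕ, ((Additive.toMul ((∑ i ∈ range m, actEnd N s (u ^ i)) v) : omegaCenter N s) : G)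
        = ((Additive.toMul v : omegaCenter N s) * u : G) ^ m * (u ^ m)⁻¹ := by
      intro m
      induction m with
      | zero => simp
      | succ m ih =>
        rw [Finset.sum_range_succ]
        show ((Additive.toMul ((∑ i ∈ range m, actEnd N s (u ^ i)) v + actEnd N s (u ^ m) v)
          : omegaCenter N s) : G) = _
        rw [toMul_add, Subgroup.coe_mul, ih, actEnd_val, pow_succ _ m, pow_succ u m]
        group
    rw [hrec, hun, inv_one, mul_one]
    exact hP.coset_pow hg₀ (by rw [Subgroup.normalizer_eq_top]; exact Subgroup.mem_top u) hu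
      (by rw [hun]; exact one_mem _) (Additive.toMul v : omegaCenter N s).2.1
  -- the characteristic
  have hchar : ∀ s : ℕ, s.Prime → s ∣ Nat.card N → ∀ m : ℕ,
      (m : AddMonoid.End (Additive (omegaCenter N s))) = 0 → s ∣ m := by
    intro s hs hsN m hm
    haveI : Fact s.Prime := ⟨hs⟩
    obtain ⟨v, hv, hv1⟩ := exists_prime_elt_omegaCenter N hs hsN
    have h1 : ((m : AddMonoid.End (Additive (omegaCenter N s))) (Additive.ofMul ⟨v, hv⟩)) = 0 := by
      rw [hm]; rfl
    rw [AddMonoid.End.natCast_apply] at h1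
    have h2 : v ^ m = 1 := congrArg (fun a => ((Additive.toMul a : omegaCenter N s) : G)) h1
    rw [← orderOf_eq_prime hv.2.2 hv1]
    exact orderOf_dvd_of_pow_eq_one h2
  -- every element outside N has prime order dividing the order of N
  have hstep : ∀ g : G, g ∉ N → g ^ p ≠ 1 → ∃ m ∈ N, m ≠ 1 ∧ Commute m g := by
    intro g hg hgp
    have hg1 : g ≠ 1 := fun e => hg (e ▸ one_mem _)
    have hKg : K g ≠ N := fun e => hg (e ▸ hP.mem g hg1)
    have hfix : ∀ v ∈ omegaCenter N p, Commute v g → v = 1 := by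
      intro v hv hc
      by_contra hv1
      haveI : Fact p.Prime := ⟨hp⟩
      have := hP.orderOf_eq hv1 hc (by rwa [hKeq v hv.1 hv1])
      rw [orderOf_eq_prime hv.2.2 hv1] at this
      exact hgp (by rw [this, pow_orderOf_eq_one])
    have hndvd : ¬ p ∣ Nat.card (K g) := by
      intro hd
      haveI : Fact p.Prime := ⟨hp⟩
      obtain ⟨k, hk⟩ := exists_prime_orderOf_dvd_card' (G := K g) p hd
      have hkG : IsPGroup p (zpowers (ConjAct.toConjAct (k : G))) := IsPGroup.of_card (n := 1)
        (by rw [Nat.card_zpowers, MulEquiv.orderOf_eq, orderOf_coe, hk, pow_one])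
      obtain ⟨v₀, hv₀, hv₀1⟩ := exists_prime_elt_omegaCenter N hp (orderOf_dvd_natCard (⟨h, hh⟩ : N) |>
        fun e => by rwa [Subgroup.orderOf_mk] at e)
      have hdvd : p ∣ Nat.card (omegaCenter N p) := by
        have := orderOf_dvd_natCard (⟨v₀, hv₀⟩ : omegaCenter N p)
        rwa [Subgroup.orderOf_mk, orderOf_eq_prime hv₀.2.2 hv₀1] at this
      obtain ⟨v, hv, hv1⟩ := hkG.exists_fixed_point_of_prime_dvd_card_of_fixed_point
        (omegaCenter N p) hdvd (a := 1) (fun c => smul_one c)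
      have hvk : Commute (v : G) k := by
        have := congrArg Subtype.val (hv ⟨ConjAct.toConjAct (k : G), mem_zpowers _⟩)
        change ConjAct.toConjAct (k : G) • (v : G) = (v : G) at this
        rw [ConjAct.smul_def, ConjAct.ofConjAct_toConjAct] at this
        exact (mul_inv_eq_iff_eq_mul.1 this).symm
      have hk1 : (k : G) ≠ 1 := fun e => by
        rw [← orderOf_coe, e, orderOf_one] at hk
        exact hp.ne_one hk.symm
      have hvN := hP.mem_normalizer_of_commute hg1 hk1 k.2 hvk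
      have hcom : (v : G) * g * (v : G)⁻¹ * g⁻¹ = 1 := by
        refine hP.eq_one_of_mem hg1 hg₀ hKg
          (mul_mem (Part.conj_mem hvN (hP.mem g hg1)) (inv_mem (hP.mem g hg1))) ?_
        have := mul_mem v.2.1 (hn.conj_mem _ (inv_mem v.2.1) g)
        convert this using 1; group
      refine hv1 (Subtype.ext (hfix v v.2 ?_).symm)
      rw [mul_inv_eq_one, mul_inv_eq_iff_eq_mul] at hcom
      exact hcom
    obtain ⟨w, hwN, hw, hwp⟩ := hP.exists_prime_normalizing hg1 (hN g hg1)
    set r := orderOf w with hr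
    have hex : ∃ k ∈ K g, k * w ∈ N := by
      by_contra hcon
      push Not at hcon
      refine hndvd (hchar p hp (orderOf_dvd_natCard (⟨h, hh⟩ : N) |>
        fun e => by rwa [Subgroup.orderOf_mk] at e) _ ?_)
      haveI : Fintype (K g) := Fintype.ofFinite _
      have hpow : ∀ k ∈ K g, (k * w) ^ r = 1 := fun k hk =>
        hP.coset_pow hg1 hwN hw (by rw [hr, pow_orderOf_eq_one]; exact one_mem _) hk
      refine card_cast_eq_zero (actEnd N p) (K g) ?_ hwN hwp hpow
        fun k hk => hnorm p _ (hcon k hk) r (hpow k hk)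
      refine DFunLike.ext _ _ fun v => ?_
      set S : Additive (omegaCenter N p) := (∑ a : K g, actEnd N p (a : G)) v with hS
      have hinv : actEnd N p g S = S := by
        rw [hS]
        show (actEnd N p g * ∑ a : K g, actEnd N p (a : G)) v = _
        rw [Finset.mul_sum]
        simp_rw [← map_mul]
        exact DFunLike.congr_fun (Fintype.sum_equiv (Equiv.mulLeft (⟨g, hP.mem g hg1⟩ : K g))
          (fun a => actEnd N p (g * (a : G))) (fun a => actEnd N p (a : G)) (fun a => rfl)) v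
      have h2 : ((Additive.toMul S : omegaCenter N p) : G) = 1 := by
        refine hfix _ (Additive.toMul S : omegaCenter N p).2 ?_
        have h3 := congrArg (fun a => ((Additive.toMul a : omegaCenter N p) : G)) hinv
        rw [actEnd_val] at h3
        exact (mul_inv_eq_iff_eq_mul.1 h3).symm
      exact Additive.toMul.injective (Subtype.ext h2)
    obtain ⟨k, hk, hkw⟩ := hex
    have hm1 : k * w ≠ 1 := fun e => hw (by
      rw [eq_inv_of_mul_eq_one_right e]; exact inv_mem hk)
    refine ⟨k * w, hkw, hm1, ?_⟩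
    have hmN : k * w ∈ Subgroup.normalizer (K g : Set G) :=
      mul_mem (Subgroup.le_normalizer hk) hwN
    have hcom : k * w * g * (k * w)⁻¹ * g⁻¹ = 1 := by
      refine hP.eq_one_of_mem hg1 hg₀ hKg
        (mul_mem (Part.conj_mem hmN (hP.mem g hg1)) (inv_mem (hP.mem g hg1))) ?_
      have := mul_mem hkw (hn.conj_mem _ (inv_mem hkw) g)
      convert this using 1; group
    rw [mul_inv_eq_one, mul_inv_eq_iff_eq_mul] at hcom
    exact hcom
  have hout : ∀ g : G, g ∉ N → (orderOf g).Prime ∧ orderOf g ∣ Nat.card N := by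
    intro g hg
    by_cases hgp : g ^ p = 1
    · haveI : Fact p.Prime := ⟨hp⟩
      rw [orderOf_eq_prime hgp (fun e => hg (e ▸ one_mem _))]
      have := orderOf_dvd_natCard (⟨h, hh⟩ : N)
      rw [Subgroup.orderOf_mk] at this
      exact ⟨hp, this⟩
    obtain ⟨m, hm, hm1, hmg⟩ := hstep g hg hgp
    have hg' : g ∉ K m := by rwa [hKeq m hm hm1]
    have h1 := hP.prime_orderOf hm1 hmg hg'
    rw [hP.orderOf_eq hm1 hmg hg'] at h1
    refine ⟨h1, ?_⟩
    rw [← hP.orderOf_eq hm1 hmg hg']
    have := orderOf_dvd_natCard (⟨m, hm⟩ : N)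
    rwa [Subgroup.orderOf_mk] at this
  intro g hg
  by_contra hgp
  set π := QuotientGroup.mk' N with hπ
  have hmk : ∀ x : G, x ∉ N → orderOf (π x) = orderOf x := by
    intro x hx
    refine ((Nat.dvd_prime (hout x hx).1).1 (orderOf_map_dvd π x)).resolve_left fun e => ?_
    exact hx ((QuotientGroup.eq_one_iff x).1 (orderOf_eq_one_iff.1 e))
  have hnot : ∀ x : G, π x ≠ 1 → x ∉ N := fun x hx hxN => hx ((QuotientGroup.eq_one_iff x).2 hxN)
  refine false_of_norm_reps (Q := G ⧸ N) ?_ ⟨π g, π y, ?_, ?_, ?_⟩ ?_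
  · intro x hx
    obtain ⟨x, rfl⟩ := QuotientGroup.mk'_surjective N x
    rw [hmk x (hnot x hx)]
    exact (hout x (hnot x hx)).1
  · exact fun e => hg ((QuotientGroup.eq_one_iff g).1 e)
  · exact fun e => hy ((QuotientGroup.eq_one_iff y).1 e)
  · rw [hmk g hg, hmk y hy, ← hyo]
    exact fun e => hgp (by rw [← e, pow_orderOf_eq_one])
  intro r hr
  obtain ⟨s, hsp, hsN, hsr⟩ : ∃ s : ℕ, s.Prime ∧ s ∣ Nat.card N ∧ s ≠ r := by
    by_cases hrp : r = p
    · refine ⟨orderOf g, (hout g hg).1, (hout g hg).2, ?_⟩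
      rw [hrp]; exact fun e => hgp (by rw [← e, pow_orderOf_eq_one])
    · refine ⟨p, hp, ?_, Ne.symm hrp⟩
      have := orderOf_dvd_natCard (⟨h, hh⟩ : N)
      rwa [Subgroup.orderOf_mk] at this
  refine ⟨AddMonoid.End (Additive (omegaCenter N s)), inferInstance,
    QuotientGroup.lift N (actEnd N s) ?_, fun e => ?_, ?_⟩
  · intro x hx
    refine DFunLike.ext _ _ fun v => ?_
    apply Additive.toMul.injective
    apply Subtype.ext
    rw [actEnd_val, ((Additive.toMul v : omegaCenter N s).2.2.1 x hx).eq, mul_inv_cancel_right]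
    rfl
  · exact hsr ((Nat.prime_dvd_prime_iff_eq hsp hr).1 (hchar s hsp hsN r e))
  · intro x hx
    obtain ⟨x, rfl⟩ := QuotientGroup.mk'_surjective N x
    rw [hmk x (hnot x hx)]
    simp only [← map_pow]
    exact hnorm s x (hnot x hx) _ (pow_orderOf_eq_one x)

end CfsgLib.Recog.PartitionType
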