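import Cfsg.Agent.Lib.Recog.PartitionType.Basic
import Cfsg.Prelude.Def_Transfer
import Cfsg.Prelude.Def_Solvable

/-!
The conjugation invariant refinement of a partition, self-normalising components, and abelian normal
subgroups.
-/

set_option autoImplicit false
set_option linter.style.haveILetI false
set_option linter.unusedSectionVars false

namespace CfsgLib.Recog.PartitionType

universe u

variable {G : Type u} [Group G] [Finite G]

/-- The intersection of all conjugates of members of `S` containing `g`. -/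
def refineAt (S : Set (Subgroup G)) (g : G) : Subgroup G where
  carrier := {x | ∀ c : G, ∀ H ∈ S, c⁻¹ * g * c ∈ H → c⁻¹ * x * c ∈ H}
  one_mem' := fun c H _ _ => by simp
  mul_mem' := fun {a b} ha hb c H hH hg => by
    have := mul_mem (ha c H hH hg) (hb c H hH hg)
    rwa [show c⁻¹ * a * c * (c⁻¹ * b * c) = c⁻¹ * (a * b) * c by group] at this
  inv_mem' := fun {a} ha c H hH hg => by
    have := inv_mem (ha c H hH hg)
    rwa [show (c⁻¹ * a * c)⁻¹ = c⁻¹ * a⁻¹ * c by group] at this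

theorem part_refineAt (S : Set (Subgroup G)) (hS2 : ∃ H ∈ S, ∃ K ∈ S, H ≠ K)
    (hS1 : ∀ H ∈ S, H ≠ ⊥) (hpart : ∀ g : G, g ≠ 1 → ∃! H : Subgroup G, H ∈ S ∧ g ∈ H) :
    Part (refineAt S) := by
  refine ⟨fun g _ c H _ h => h, ?_, ?_, ?_⟩
  · intro g h hg hh hhg
    have key : ∀ c : G, ∀ H ∈ S, c⁻¹ * h * c ∈ H → c⁻¹ * g * c ∈ H := by
      intro c H hH hc
      have hgc : c⁻¹ * g * c ≠ 1 := fun e => hg ((conj_eq_one_iff (c := c⁻¹)).1 (by rwa [inv_inv]))
      obtain ⟨H', ⟨hH', hgH'⟩, -⟩ := hpart _ hgc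
      obtain ⟨L, -, hu⟩ := hpart _ (show c⁻¹ * h * c ≠ 1 from
        fun e => hh ((conj_eq_one_iff (c := c⁻¹)).1 (by rwa [inv_inv])))
      exact (hu H ⟨hH, hc⟩).symm ▸ (hu H' ⟨hH', hhg c H' hH' hgH'⟩) ▸ hgH'
    ext x
    exact ⟨fun hx c H hH hc => hx c H hH (hhg c H hH hc),
      fun hx c H hH hc => hx c H hH (key c H hH hc)⟩
  · intro c g x _ hx d H hH hd
    have := hx (c⁻¹ * d) H hH (by
      rwa [show (c⁻¹ * d)⁻¹ * g * (c⁻¹ * d) = d⁻¹ * (c * g * c⁻¹) * d by group])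
    rwa [show (c⁻¹ * d)⁻¹ * x * (c⁻¹ * d) = d⁻¹ * (c * x * c⁻¹) * d by group] at this
  · intro g hg htop
    obtain ⟨H₀, ⟨hH₀, hgH₀⟩, -⟩ := hpart g hg
    have hall : ∀ x : G, x ∈ H₀ := fun x => by
      have hx : x ∈ refineAt S g := htop ▸ Subgroup.mem_top x
      simpa using hx 1 H₀ hH₀ (by simpa using hgH₀)
    obtain ⟨A, hA, B, hB, hne⟩ := hS2
    have huniq : ∀ L ∈ S, L = H₀ := by
      intro L hL
      obtain ⟨x, hx, hx1⟩ := (Subgroup.bot_or_exists_ne_one L).resolve_left (hS1 L hL)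
      obtain ⟨M, -, hu⟩ := hpart x hx1
      exact (hu L ⟨hL, hx⟩).trans (hu H₀ ⟨hH₀, hall x⟩).symm
    exact hne ((huniq A hA).trans (huniq B hB).symm)

variable {K : G → Subgroup G}

/-- A self-normalising component is a Frobenius complement. -/
theorem isFrobeniusComplement_of_selfNorm (hP : Part K) {g : G} (hg : g ≠ 1)
    (h : ∀ y ∈ Subgroup.normalizer (K g : Set G), y ∈ K g) : Cfsg.IsFrobeniusComplement (K g) := by
  refine ⟨hP.ne_bot hg, hP.ne_top g hg, fun c hc => ?_⟩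
  rw [Subgroup.eq_bot_iff_forall]
  intro a ha
  obtain ⟨h1, h2⟩ := Subgroup.mem_inf.1 ha
  by_contra ha1
  rw [Subgroup.mem_pointwise_smul_iff_inv_smul_mem, MulAut.smul_def, ← map_inv,
    MulAut.conj_apply] at h2
  exact hc (inv_inv c ▸ inv_mem (h _ (hP.mem_normalizer hg ha1 h1 h2)))

/-- A component containing a nontrivial normal subgroup is normal. -/
theorem normal_of_normal_le (hP : Part K) {g : G} (hg : g ≠ 1) (V : Subgroup G) [hV : V.Normal]
    (hV1 : V ≠ ⊥) (hle : V ≤ K g) : (K g).Normal := by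
  obtain ⟨v, hv, hv1⟩ := (Subgroup.bot_or_exists_ne_one V).resolve_left hV1
  exact ⟨fun x hx c => (Subgroup.mem_normalizer_iff.1
    (hP.mem_normalizer hg hv1 (hle hv) (hle (hV.conj_mem v hv c))) x).1 hx⟩

/-- A nontrivial soluble normal subgroup yields an elementary abelian one. -/
theorem exists_elementaryAbelian_normal (N : Subgroup G) [N.Normal] (hN : Group.IsSolvable N)
    (hN1 : N ≠ ⊥) :
    ∃ (p : ℕ) (V : Subgroup G), p.Prime ∧ V.Normal ∧ Cfsg.IsElementaryAbelian p V ∧ V ≠ ⊥ := by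
  obtain ⟨n, hn⟩ := hN.solvable
  obtain ⟨A, hAn, hA1, hAc⟩ : ∃ A : Subgroup G, A.Normal ∧ A ≠ ⊥ ∧
      ∀ a ∈ A, ∀ b ∈ A, Commute a b := by
    induction n with
    | zero =>
      refine absurd ?_ hN1
      rw [derivedSeries_zero] at hn
      exact (Subgroup.eq_bot_iff_forall N).2 fun x hx =>
        congrArg Subtype.val (show (⟨x, hx⟩ : N) = 1 from Subgroup.mem_bot.1 (by rw [← hn]; exact Subgroup.mem_top _))
    | succ n ih =>
      by_cases h : derivedSeries N n = ⊥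
      · exact ih h
      · haveI := derivedSeries_characteristic N n
        refine ⟨(derivedSeries N n).map N.subtype, inferInstance,
          fun e => h ((Subgroup.map_eq_bot_iff_of_injective _ N.subtype_injective).1 e), ?_⟩
        rintro _ ⟨a, ha, rfl⟩ _ ⟨b, hb, rfl⟩
        rw [derivedSeries_succ] at hn
        exact congrArg Subtype.val
          (Subgroup.commutator_eq_bot_iff_le_centralizer.1 hn ha b hb).symm
  obtain ⟨a, ha, ha1⟩ := (Subgroup.bot_or_exists_ne_one A).resolve_left hA1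
  obtain ⟨p, hp, hdvd⟩ := Nat.exists_prime_and_dvd
    (show orderOf a ≠ 1 from fun e => ha1 (orderOf_eq_one_iff.1 e))
  let V : Subgroup G :=
    { carrier := {x | x ∈ A ∧ x ^ p = 1}
      one_mem' := ⟨one_mem _, one_pow _⟩
      mul_mem' := fun {x y} hx hy =>
        ⟨mul_mem hx.1 hy.1, by rw [(hAc x hx.1 y hy.1).mul_pow, hx.2, hy.2, one_mul]⟩
      inv_mem' := fun {x} hx => ⟨inv_mem hx.1, by rw [inv_pow, hx.2, inv_one]⟩ }
  refine ⟨p, V, hp, ⟨fun x hx c => ⟨hAn.conj_mem x hx.1 c, by rw [conj_pow, hx.2]; simp⟩⟩,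
    ⟨⟨⟨fun x y => Subtype.ext (hAc x x.2.1 y y.2.1).eq⟩⟩, fun x hx => hx.2⟩, fun e => ?_⟩
  have ho : orderOf (a ^ (orderOf a / p)) = p := orderOf_pow_orderOf_div (orderOf_pos a).ne' hdvd
  have h1 : a ^ (orderOf a / p) ∈ (⊥ : Subgroup G) :=
    e ▸ ⟨pow_mem ha _, by
      exact orderOf_dvd_iff_pow_eq_one.1 (by rw [ho])⟩
  rw [Subgroup.mem_bot.1 h1, orderOf_one] at ho
  exact hp.ne_one ho.symm

end CfsgLib.Recog.PartitionType
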