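import Cfsg.Agent.Lib.Recog.PartitionType.Basic
import Cfsg.Agent.Lib.Recog.EPPOTwo.Locals
import Cfsg.Agent.Lib.Recog.FrobSys.Global
import Cfsg.Agent.Lib.Recog.SL2Char2
import Cfsg.Agent.Lib.Perm.SLTwoPGLEven
import Cfsg.Agent.S3322

/-!
Partitioned groups without soluble normal subgroups in which no component contains a Sylow
2-subgroup: some involution centraliser is a D-group.
-/

set_option autoImplicit false
set_option linter.style.haveILetI false
set_option linter.unusedSectionVars false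

namespace CfsgLib.Recog.PartitionType

universe u

variable {G : Type u} [Group G] [Finite G] {K : G → Subgroup G}

/-- The two linear alternatives of the classification. -/
def LinearType (G : Type u) [Group G] : Prop :=
  (∃ (F : Type) (_ : Field F) (_ : Fintype F), 4 ≤ Fintype.card F ∧
      Nonempty (G ≃* Matrix.ProjectiveSpecialLinearGroup (Fin 2) F)) ∨
    (∃ (F : Type) (_ : Field F) (_ : Fintype F), 5 ≤ Fintype.card F ∧ Odd (Fintype.card F) ∧
      Nonempty (G ≃* (GL (Fin 2) F ⧸ Subgroup.center (GL (Fin 2) F))))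

theorem four_dvd_card_sylow (hns : ¬ Group.IsSolvable G) (S : Sylow 2 G) :
    4 ∣ Nat.card (S : Subgroup G) := by
  haveI : Fact (Nat.Prime 2) := ⟨Nat.prime_two⟩
  obtain ⟨n, hn⟩ := S.isPGroup'.exists_card_eq
  rw [hn]
  rcases n with _ | _ | n
  · exfalso
    refine hns (FT.isSolvable_of_odd ?_)
    rw [← Nat.not_even_iff_odd, even_iff_two_dvd, ← (S : Subgroup G).card_mul_index, hn,
      pow_zero, one_mul]
    exact S.not_dvd_index
  · exfalso
    refine hns (FrobSys.isSolvable_of_burnside S fun x hx => Subgroup.mem_centralizer_iff.2 ?_)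
    intro s hs
    rcases eq_or_ne s 1 with rfl | hs1
    · simp
    have hx' : x * s * x⁻¹ ∈ (S : Subgroup G) := (Subgroup.mem_normalizer_iff.1 hx s).1 hs
    have hx1 : x * s * x⁻¹ ≠ 1 := fun e => hs1 (conj_eq_one_iff.1 e)
    by_contra hne
    have hne' : x * s * x⁻¹ ≠ s := fun e => hne (mul_inv_eq_iff_eq_mul.1 e).symm
    let j : Fin 3 → (S : Subgroup G) := ![1, ⟨s, hs⟩, ⟨x * s * x⁻¹, hx'⟩]
    have hj : Function.Injective j := by
      intro a b hab
      have hval := congrArg Subtype.val hab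
      fin_cases a <;> fin_cases b <;>
        first
        | rfl
        | exact absurd hval hs1 | exact absurd hval.symm hs1
        | exact absurd hval hx1 | exact absurd hval.symm hx1
        | exact absurd hval hne' | exact absurd hval.symm hne'
    have h3 := Nat.card_le_card_of_injective j hj
    rw [Nat.card_fin, hn] at h3
    norm_num at h3
  · exact pow_dvd_pow 2 (by omega : 2 ≤ n + 1 + 1)

/-- A normal subgroup of order twice an odd number is soluble. -/
theorem isSolvable_two_mul_odd {N : Type*} [Group N] [Finite N] {m : ℕ} (hm : Odd m)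
    (h : Nat.card N = 2 * m) : Group.IsSolvable N := by
  by_contra hns
  haveI : Fact (Nat.Prime 2) := ⟨Nat.prime_two⟩
  obtain ⟨S⟩ := (inferInstance : Nonempty (Sylow 2 N))
  have h4 : 4 ∣ Nat.card N :=
    (four_dvd_card_sylow hns S).trans (Subgroup.card_subgroup_dvd_card _)
  obtain ⟨j, rfl⟩ := hm
  omega

/-- The outcome of the D-group theorem. -/
theorem linearType_of_dgroup (hns : ¬ Group.IsSolvable G)
    (hrad : ∀ N : Subgroup G, N.Normal → Group.IsSolvable N → N = ⊥)
    (H A : Subgroup G) (hAH : A < H) (hD : ∀ x ∈ H, x ∉ A → x ^ 2 = 1) (h4 : 4 ∣ Nat.card ↥H)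
    (hC : ∀ j ∈ H, orderOf j = 2 → (∀ h ∈ H, h * j = j * h) →
      Subgroup.centralizer ({j} : Set G) = H) : LinearType G := by
  obtain ⟨N, hNn, hNc, F, iF, jF, hF, hiso⟩ := Cfsg.Agent.S3322.result H A hAH hD h4 hC hns
  have hN : N = ⊥ := hrad N hNn (by
    rcases hNc with ho | ⟨m, hm, hcard⟩
    · exact FT.isSolvable_of_odd ho
    · exact isSolvable_two_mul_odd hm hcard)
  let e0 : G ≃* G ⧸ N := QuotientGroup.quotientBot.symm.trans
    (QuotientGroup.quotientMulEquivOfEq hN.symm)
  rcases hiso with ⟨⟨e⟩⟩ | ⟨⟨e⟩⟩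
  · exact Or.inl ⟨F, iF, jF, hF, ⟨e0.trans e⟩⟩
  · rcases Nat.even_or_odd (Fintype.card F) with he | ho
    · have h2 : ringChar F = 2 := FiniteField.even_card_iff_char_two.2 (Nat.even_iff.1 he)
      haveI : CharP F 2 := ringChar.of_eq h2
      obtain ⟨f⟩ := CfsgLib.Perm.nonempty_sl_two_equiv_pgl F h2
      exact Or.inl ⟨F, iF, jF, hF, ⟨((e0.trans e).trans f.symm).trans CfsgLib.Recog.pslEquivSL⟩⟩
    · refine Or.inr ⟨F, iF, jF, ?_, ho, ⟨e0.trans e⟩⟩
      obtain ⟨j, hj⟩ := ho
      omega

/-- No component contains a Sylow 2-subgroup. -/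
theorem linearType_of_split (hP : Part K) (hns : ¬ Group.IsSolvable G)
    (hrad : ∀ N : Subgroup G, N.Normal → Group.IsSolvable N → N = ⊥) (S : Sylow 2 G)
    (hS : ∀ z : G, orderOf z = 2 → z ∈ (S : Subgroup G) → ¬ (S : Subgroup G) ≤ K z) :
    LinearType G := by
  haveI : Fact (Nat.Prime 2) := ⟨Nat.prime_two⟩
  have hS4 := four_dvd_card_sylow hns S
  have hSne : (S : Subgroup G) ≠ ⊥ := fun e => by
    rw [e, Subgroup.card_bot] at hS4; omega
  haveI : Nontrivial (S : Subgroup G) := (Subgroup.nontrivial_iff_ne_bot _).2 hSne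
  obtain ⟨z₀, hz₀, hz₀o⟩ := EPPOTwo.exists_involution (S.isPGroup'.to_subgroup _)
    ((Subgroup.nontrivial_iff_ne_bot _).1 S.isPGroup'.center_nontrivial)
  by_cases hexp : ∀ z ∈ (S : Subgroup G), orderOf z = 2 →
      (∀ s ∈ (S : Subgroup G), Commute s z) → ∀ c : G, Commute z c → c * c = 1
  · have hz0c : ∀ s ∈ (S : Subgroup G), Commute s (z₀ : G) := fun s hs =>
      congrArg Subtype.val (Subgroup.mem_center_iff.1 hz₀ ⟨s, hs⟩)
    have h2 : ∀ c : G, Commute (z₀ : G) c → c * c = 1 :=
      hexp _ z₀.2 (by rw [Subgroup.orderOf_coe]; exact hz₀o) hz0c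
    have hSexp : ∀ s ∈ (S : Subgroup G), s * s = 1 := fun s hs => h2 s (hz0c s hs).symm
    have hab : ∀ s ∈ (S : Subgroup G), ∀ t ∈ (S : Subgroup G), Commute s t := fun s hs t ht => by
      have h := hSexp _ (mul_mem hs ht)
      show s * t = t * s
      calc s * t = (s * t)⁻¹ := eq_inv_of_mul_eq_one_left h
        _ = t * s := by
          rw [mul_inv_rev, inv_eq_of_mul_eq_one_left (hSexp s hs),
            inv_eq_of_mul_eq_one_left (hSexp t ht)]
    refine linearType_of_dgroup hns hrad S ⊥ (Ne.bot_lt hSne)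
      (fun x hx _ => by rw [pow_two]; exact hSexp x hx) hS4 fun j hj hjo _ => ?_
    have hjc : ∀ s ∈ (S : Subgroup G), Commute s j := fun s hs => hab s hs j hj
    refine S.is_maximal' (fun c => ⟨1, ?_⟩) fun s hs =>
      Subgroup.mem_centralizer_singleton_iff.2 (hjc s hs).eq
    refine Subtype.ext ?_
    have := hexp j hj hjo hjc c (Subgroup.mem_centralizer_singleton_iff.1 c.2).symm
    simpa [pow_two] using this
  · push_neg at hexp
    obtain ⟨z, hzS, hzo, hzc, c, hcz, hc2⟩ := hexp
    have hz1 : z ≠ 1 := fun e => by rw [e, orderOf_one] at hzo; omega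
    have two_of : ∀ {g : G}, orderOf g = 2 → g * g = 1 := fun h => EPPOTwo.sq_eq_one_of_orderOf h
    have hcH : c ∈ K z := hP.mem_of_commute hz1 hcz fun e => hc2 (two_of (e ▸ hzo))
    obtain ⟨y, hyS, hyH⟩ : ∃ y ∈ (S : Subgroup G), y ∉ K z := by
      simpa [SetLike.le_def] using hS z hzo hzS
    -- elements outside commuting with `z` invert the component
    have hout : ∀ g : G, Commute z g → g ∉ K z → g * g = 1 ∧ ∀ h ∈ K z, g * h * g⁻¹ = h⁻¹ := by
      intro g hg hgH
      have hg2 := two_of ((hP.orderOf_eq hz1 hg hgH).symm.trans hzo)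
      exact ⟨hg2, fun h hh => hP.inverts hz1
        (hP.mem_normalizer_of_commute hz1 hz1 (hP.mem z hz1) hg.symm) hgH hg2 hh⟩
    obtain ⟨hy2, hyinv⟩ := hout y (hzc y hyS).symm hyH
    have habH : ∀ a ∈ K z, ∀ b ∈ K z, Commute a b := fun a ha b hb => by
      have h : y * (a * b) * y⁻¹ = (y * a * y⁻¹) * (y * b * y⁻¹) := by group
      rw [hyinv _ (mul_mem ha hb), hyinv a ha, hyinv b hb, mul_inv_rev] at h
      show a * b = b * a
      have := congrArg (·⁻¹) h
      simpa using this
    have hHC : K z ≤ Subgroup.centralizer ({z} : Set G) := fun a ha =>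
      Subgroup.mem_centralizer_singleton_iff.2 (habH a ha z (hP.mem z hz1)).eq
    have hlt : K z < Subgroup.centralizer ({z} : Set G) := lt_of_le_of_ne hHC fun e =>
      hyH (e.symm ▸ Subgroup.mem_centralizer_singleton_iff.2 (hzc y hyS).eq)
    have hSC : (S : Subgroup G) ≤ Subgroup.centralizer ({z} : Set G) := fun s hs =>
      Subgroup.mem_centralizer_singleton_iff.2 (hzc s hs).eq
    refine linearType_of_dgroup hns hrad _ (K z) hlt
      (fun x hx hxH => by
        rw [pow_two]
        exact (hout x (Subgroup.mem_centralizer_singleton_iff.1 hx).symm hxH).1)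
      (hS4.trans (Subgroup.card_dvd_of_le hSC)) fun j hj hjo hjc => ?_
    have hjz : Commute z j := (Subgroup.mem_centralizer_singleton_iff.1 hj).symm
    have hj1 : j ≠ 1 := fun e => by rw [e, orderOf_one] at hjo; omega
    have hjH : j ∈ K z := by
      by_contra hjH
      have h1 := (hout j hjz hjH).2 c hcH
      have h2 : Commute c j := hjc c (hHC hcH)
      rw [← h2.eq, mul_inv_cancel_right] at h1
      exact hc2 (eq_inv_iff_mul_eq_one.1 h1)
    refine le_antisymm (fun g hg => ?_) fun g hg =>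
      Subgroup.mem_centralizer_singleton_iff.2 (hjc g hg)
    have hgj : Commute g j := Subgroup.mem_centralizer_singleton_iff.1 hg
    by_cases hgH : g ∈ K z
    · exact hHC hgH
    have hgH' : g ∉ K j := by rwa [hP.eq z j hz1 hj1 hjH]
    have hg2 := two_of ((hP.orderOf_eq hj1 hgj.symm hgH').symm.trans hjo)
    have hgz := hP.inverts hz1 (hP.mem_normalizer_of_commute hz1 hj1 hjH hgj) hgH hg2 (hP.mem z hz1)
    rw [inv_eq_of_mul_eq_one_left (two_of hzo)] at hgz
    exact Subgroup.mem_centralizer_singleton_iff.2 (mul_inv_eq_iff_eq_mul.1 hgz)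

end CfsgLib.Recog.PartitionType
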