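import Cfsg.Agent.Lib.Recog.PartitionType.Basic
import Cfsg.Agent.Lib.Recog.FrobSys.Classify
import Cfsg.Agent.Lib.Recog.FrobSys.Global
import Cfsg.Agent.Lib.Recog.SzIso.Group
import Cfsg.Agent.Lib.Recog.SL2Char2
import Cfsg.Agent.Lib.Base.Nilpotent

/-!
# A nilpotent component containing a Sylow 2-subgroup

Such a component is a trivial-intersection subgroup containing the centraliser of each of its
non-identity elements, so the group is `PSL(2, 2 ^ n)` or a Suzuki group when it has no soluble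
normal subgroup.
-/

set_option autoImplicit false
set_option linter.style.haveILetI false
set_option linter.unusedSectionVars false

universe u

namespace CfsgLib.Recog.PartitionType

open Subgroup MulAction
open CfsgLib.Involutions
open CfsgLib.Recog.FrobSys (mem_cent N₀)

variable {G : Type u} [Group G] [Finite G]

/-- A component with a Sylow 2-subgroup and a central involution `t`, not normal in `G`. -/
structure Pre (K : G → Subgroup G) (A : Subgroup G) (t : G) : Prop where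
  part : Part K
  comp : ∀ a ∈ A, a ≠ 1 → K a = A
  ne_top : N₀ A ≠ ⊤
  ord : orderOf t = 2
  mem : t ∈ A
  central : ∀ a ∈ A, Commute t a
  syl : ∃ P : Sylow 2 G, (P : Subgroup G) ≤ A

namespace Pre

variable {K : G → Subgroup G} {A : Subgroup G} {t : G} (hs : Pre K A t)
include hs

omit [Finite G] in
theorem ne_one : t ≠ 1 := fun e => by
  have := hs.ord
  rw [e, orderOf_one] at this
  omega

omit [Finite G] in
theorem mem_self : t ∈ A := hs.mem

omit [Finite G] hs in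
theorem conj_mem {g a : G} (hg : g ∈ N₀ A) (ha : a ∈ A) :
    g * a * g⁻¹ ∈ A :=
  (Subgroup.mem_normalizer_iff.1 hg a).1 ha

theorem invol_mem {s : G} (hsN : s ∈ N₀ A) (hso : orderOf s = 2) :
    s ∈ A := by
  haveI : Fact (Nat.Prime 2) := ⟨Nat.prime_two⟩
  obtain ⟨P, hP⟩ := hs.syl
  let Q : Sylow 2 (N₀ A) := P.subtype (hP.trans le_normalizer)
  obtain ⟨R, hR⟩ := (IsPGroup.of_card (G := zpowers (⟨s, hsN⟩ : N₀ A)) (n := 1)
    (by rw [Nat.card_zpowers, Subgroup.orderOf_mk, hso, pow_one])).exists_le_sylow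
  obtain ⟨h, hh⟩ := MulAction.exists_smul_eq (N₀ A) Q R
  have hm : (⟨s, hsN⟩ : N₀ A) ∈ (R : Subgroup (N₀ A)) := hR (mem_zpowers _)
  rw [← hh, Sylow.coe_subgroup_smul, mem_pointwise_smul_iff_inv_smul_mem, MulAut.smul_def,
    ← map_inv, MulAut.conj_apply, inv_inv] at hm
  have hm' : (h : G)⁻¹ * s * h ∈ A := hP hm
  have := conj_mem h.2 hm'
  rwa [show (h : G) * ((h : G)⁻¹ * s * h) * (h : G)⁻¹ = s by group] at this

theorem mem_of_meet {g a : G} (ha : a ∈ A) (ha1 : a ≠ 1) (hga : g⁻¹ * a * g ∈ A) :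
    g ∈ N₀ A := by
  have := hs.part.mem_normalizer (g := a) (c := g⁻¹) (a := a) ha1 ha1 (hs.part.mem a ha1)
    (by rwa [inv_inv, hs.comp a ha ha1])
  rw [hs.comp a ha ha1] at this
  exact inv_inv g ▸ inv_mem this

/-- The centraliser of an involution of the component lies in it. -/
theorem mem_of_commute_invol {s y : G} (hsA : s ∈ A) (hso : orderOf s = 2) (hc : Commute s y) :
    y ∈ A := by
  have hs1 : s ≠ 1 := fun e => by rw [e, orderOf_one] at hso; omega
  by_contra hy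
  rw [← hs.comp s hsA hs1] at hy
  have hyN := hs.part.mem_normalizer_of_commute hs1 hs1 (hs.part.mem s hs1) hc.symm
  rw [hs.comp s hsA hs1] at hyN hy
  refine hy (hs.invol_mem hyN ?_)
  rw [← hs.part.orderOf_eq hs1 hc (by rwa [hs.comp s hsA hs1]), hso]

theorem mem_A {y : G} (h : Commute t y) : y ∈ A := hs.mem_of_commute_invol hs.mem hs.ord h

theorem stronglyEmbedded : Cfsg.IsStronglyEmbedded (N₀ A) := by
  refine ⟨hs.ne_top, (even_card_iff _).2 ⟨t, le_normalizer hs.mem_self, hs.ord⟩, fun g hg => ?_⟩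
  rw [odd_card_iff]
  rintro s ⟨hsN, hsg₀⟩ hso
  have hsg := mem_conj_map.1 hsg₀
  refine hg (hs.mem_of_meet (hs.invol_mem hsN hso) (fun e => ?_) (hs.invol_mem hsg ?_))
  · rw [e, orderOf_one] at hso
    omega
  · have := conj_invol g⁻¹ hso
    rwa [inv_inv] at this

local notation "x₀" => (QuotientGroup.mk (1 : G) : G ⧸ N₀ A)

omit hs [Finite G] in
theorem mem_N₀_iff {g : G} : g ∈ N₀ A ↔ g • x₀ = x₀ := by
  rw [SE.smul_mk_eq_iff]; simp

/-- A non-identity element of the component fixes only the coset of the normaliser. -/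
theorem free {a : G} (ha : a ∈ A) {z : G ⧸ N₀ A} (hz : x₀ ≠ z)
    (haz : a • z = z) : a = 1 := by
  have hSE := hs.stronglyEmbedded
  by_contra ha1
  obtain ⟨⟨v, hv, hvz⟩⟩ : Nonempty {i : G // orderOf i = 2 ∧ i • x₀ = z} := by
    refine (Nat.card_pos_iff.1 ?_).1
    rw [SE.card_carry hSE hs.ord hz (mem_N₀_iff.1 (le_normalizer hs.mem_self)), SE.card_fixing]
    haveI : Nonempty {i : G // orderOf i = 2 ∧ i ∈ N₀ A} := ⟨⟨t, hs.ord, le_normalizer hs.mem_self⟩⟩
    exact Nat.card_pos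
  have hvz' : v • z = x₀ := by rw [← hvz, ← mul_smul, invol_mul_self hv, one_smul]
  have hvi := invol_inv hv
  have hvv := invol_mul_self hv
  have hvN : v ∉ N₀ A := fun h => hz ((mem_N₀_iff.1 h).symm.trans hvz)
  have haH : a ∈ N₀ A := le_normalizer ha
  have haodd : Odd (orderOf a) := SE.odd_of_two_fixed hSE hz (mem_N₀_iff.1 haH) haz
  set a' := v * a * v with ha'
  have ha'H : a' ∈ N₀ A := mem_N₀_iff.2 (by rw [ha', mul_smul, mul_smul, hvz, haz, hvz'])
  -- the commutator lies in the component and in its conjugate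
  have hc1 : a * a' * a⁻¹ * a'⁻¹ ∈ A := by
    rw [show a * a' * a⁻¹ * a'⁻¹ = a * (a' * a⁻¹ * a'⁻¹) by group]
    exact mul_mem ha (conj_mem ha'H (inv_mem ha))
  have hc2 : v * (a * a' * a⁻¹ * a'⁻¹) * v ∈ A := by
    have : v * (a * a' * a⁻¹ * a'⁻¹) * v = (a' * a * a'⁻¹) * a⁻¹ := by
      simp only [ha', mul_inv_rev, hvi, mul_assoc]
      simp only [← mul_assoc v v, hvv, one_mul, mul_one]
    rw [this]
    exact mul_mem (conj_mem ha'H ha) (inv_mem ha)
  have hone : a * a' * a⁻¹ * a'⁻¹ = 1 := by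
    by_contra hne
    exact hvN (hs.mem_of_meet hc1 hne (by rwa [hvi]))
  have hcomm : Commute a a' := mul_inv_eq_iff_eq_mul.1 (mul_inv_eq_one.1 hone)
  have ha'A : a' ∉ A := fun h => hvN (hs.mem_of_meet ha ha1 (by rwa [hvi]))
  have hP := hs.part
  have hord : orderOf a = orderOf a' := hP.orderOf_eq ha1 hcomm (by rwa [hs.comp a ha ha1])
  -- the component of `a * a'` would contain both
  set c := a * a' with hc
  have hc0 : c ≠ 1 := fun e => ha'A (by
    rw [eq_inv_of_mul_eq_one_right e]; exact inv_mem ha)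
  have hvc : Commute c v := by
    show c * v = v * c
    simp only [hc, ha', mul_assoc, hvv, mul_one]
    have := congrArg (· * v) hcomm.eq
    simpa only [ha', mul_assoc, hvv, mul_one] using this
  have hoc : orderOf c ∣ orderOf a := orderOf_dvd_of_pow_eq_one (by
    rw [hc, hcomm.mul_pow, pow_orderOf_eq_one, one_mul, hord, pow_orderOf_eq_one])
  have hvK : v ∈ K c := hP.mem_of_commute hc0 hvc (fun e => by
    rw [e, hv] at hoc
    exact Nat.not_even_iff_odd.2 haodd (even_iff_two_dvd.2 hoc))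
  have hcK : c ∈ K c := hP.mem c hc0
  have haN : a ∈ normalizer (K c : Set G) :=
    hP.mem_normalizer_of_commute hc0 hc0 hcK (show Commute a (a * a') from
      (Commute.refl a).mul_right hcomm)
  have ha2 : a ^ 2 ∈ K c := by
    have h := mul_mem hcK (mul_mem (Part.conj_mem haN hvK) (inv_mem hvK))
    convert h using 1
    have e : a * v * a⁻¹ * v⁻¹ = a * a'⁻¹ := by
      simp only [ha', mul_inv_rev, hvi, mul_assoc]
    rw [e, hc, hcomm.eq, mul_assoc, ← mul_assoc a a, ← pow_two, ← mul_assoc,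
      ((hcomm.pow_left 2).symm).eq, mul_inv_cancel_right]
  have haK : a ∈ K c := by
    by_contra hh
    have h2 := hP.pow_eq_one hc0 hh ha2
    rcases (Nat.dvd_prime Nat.prime_two).1 (orderOf_dvd_of_pow_eq_one h2) with h | h
    · exact ha1 (orderOf_eq_one_iff.1 h)
    · rw [h] at haodd
      exact absurd haodd (by decide)
  have hA : K c = A := by rw [← hP.eq c a hc0 ha1 haK, hs.comp a ha ha1]
  rw [hA] at hcK
  exact ha'A (by simpa [hc] using mul_mem (inv_mem ha) hcK)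

theorem card_swapping {z : G ⧸ N₀ A} (hz : x₀ ≠ z) :
    Nat.card {i : G // orderOf i = 2 ∧ i • x₀ = z} =
      Nat.card {s : G // orderOf s = 2 ∧ s ∈ N₀ A} := by
  rw [SE.card_carry hs.stronglyEmbedded hs.ord hz (mem_N₀_iff.1 (le_normalizer hs.mem_self)),
    SE.card_fixing]

theorem exists_swapping {z : G ⧸ N₀ A} (hz : x₀ ≠ z) : ∃ v : G, orderOf v = 2 ∧ v • x₀ = z := by
  haveI : Nonempty {i : G // orderOf i = 2 ∧ i ∈ N₀ A} := ⟨⟨t, hs.ord, le_normalizer hs.mem_self⟩⟩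
  have h : 0 < Nat.card {i : G // orderOf i = 2 ∧ i • x₀ = z} := by
    rw [hs.card_swapping hz]; exact Nat.card_pos
  obtain ⟨⟨v, hv⟩⟩ := (Nat.card_pos_iff.1 h).1
  exact ⟨v, hv⟩

/-- The stabiliser of two cosets: order, transitivity, inversion. -/
theorem pair_facts {z : G ⧸ N₀ A} (hz : x₀ ≠ z) :
    Nat.card (stabilizer G x₀ ⊓ stabilizer G z : Subgroup G) =
        Nat.card {s : G // orderOf s = 2 ∧ s ∈ N₀ A} ∧
      (∀ s : G, orderOf s = 2 → s ∈ N₀ A →
        ∃ d ∈ stabilizer G x₀ ⊓ stabilizer G z, d * t * d⁻¹ = s) ∧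
      ∀ v : G, orderOf v = 2 → v • x₀ = z →
        ∀ d ∈ stabilizer G x₀ ⊓ stabilizer G z, v * d * v⁻¹ = d⁻¹ := by
  set D := stabilizer G x₀ ⊓ stabilizer G z
  have hDN : ∀ d ∈ D, d ∈ N₀ A := fun d hd => mem_N₀_iff.2 hd.1
  let f : D → {s : G // orderOf s = 2 ∧ s ∈ N₀ A} := fun d => ⟨d * t * (d : G)⁻¹,
    conj_invol _ hs.ord,
    mul_mem (mul_mem (hDN d d.2) (le_normalizer hs.mem_self)) (inv_mem (hDN d d.2))⟩
  have hf : Function.Injective f := by
    intro d e h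
    have h' : (d : G) * t * (d : G)⁻¹ = e * t * (e : G)⁻¹ := congrArg Subtype.val h
    have hA : (e : G)⁻¹ * d ∈ A := hs.mem_A (Commute.symm (by
      show (e : G)⁻¹ * d * t = t * ((e : G)⁻¹ * d)
      calc (e : G)⁻¹ * d * t = (e : G)⁻¹ * (d * t * (d : G)⁻¹) * d := by group
        _ = t * ((e : G)⁻¹ * d) := by rw [h']; group))
    exact Subtype.ext (inv_mul_eq_one.1
      (hs.free hA hz (mul_mem (inv_mem e.2) d.2 : (e : G)⁻¹ * d ∈ D).2)).symm
  obtain ⟨v₀, hv₀, hv₀z⟩ := hs.exists_swapping hz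
  have hge : ∀ v, orderOf v = 2 → v • x₀ = z →
      ∃ g : {i : G // orderOf i = 2 ∧ i • x₀ = z} → D, Function.Injective g ∧
        ∀ i, ((g i : D) : G) = i * v := by
    intro v hv hvz
    have hswap : ∀ i : G, orderOf i = 2 → i • x₀ = z → i • z = x₀ := fun i hi hiz => by
      rw [← hiz, ← mul_smul, invol_mul_self hi, one_smul]
    refine ⟨fun i => ⟨i * v, ⟨?_, ?_⟩⟩, fun i j h => Subtype.ext
      (mul_right_cancel (congrArg Subtype.val h)), fun i => rfl⟩
    · show ((i : G) * v) • x₀ = x₀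
      rw [mul_smul, hvz, hswap _ i.2.1 i.2.2]
    · show ((i : G) * v) • z = z
      rw [mul_smul, hswap v hv hvz, i.2.2]
  have hcard : Nat.card D = Nat.card {s : G // orderOf s = 2 ∧ s ∈ N₀ A} := by
    refine le_antisymm (Nat.card_le_card_of_injective f hf) ?_
    rw [← hs.card_swapping hz]
    obtain ⟨g, hg, -⟩ := hge v₀ hv₀ hv₀z
    exact Nat.card_le_card_of_injective g hg
  refine ⟨hcard, fun s hs' hsN => ?_, fun v hv hvz d hd => ?_⟩
  · obtain ⟨d, hd⟩ :=
      ((Nat.bijective_iff_injective_and_card f).2 ⟨hf, hcard⟩).2 ⟨s, hs', hsN⟩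
    exact ⟨d, d.2, congrArg Subtype.val hd⟩
  · obtain ⟨g, hg, hg'⟩ := hge v hv hvz
    obtain ⟨i, hi⟩ := ((Nat.bijective_iff_injective_and_card g).2
      ⟨hg, (hs.card_swapping hz).trans hcard.symm⟩).2 ⟨d, hd⟩
    have hd' : d = (i : G) * v := by rw [← hg', hi]
    rw [hd', mul_inv_rev, invol_inv hv, invol_inv i.2.1, mul_assoc v, mul_assoc (i : G),
      invol_mul_self hv, mul_one]

theorem exists_other : ∃ z : G ⧸ N₀ A, x₀ ≠ z := by
  obtain ⟨u, hu, -⟩ := SE.exists_invol_not_mem hs.stronglyEmbedded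
  exact ⟨u • x₀, fun e => hu (mem_N₀_iff.2 e.symm)⟩

/-- An involution interchanging two cosets inverts their stabiliser. -/
theorem inverts {x y : G ⧸ N₀ A} (hxy : x ≠ y) {v : G} (hv : orderOf v = 2) (hvx : v • x = y)
    {d : G} (hdx : d • x = x) (hdy : d • y = y) : v * d * v⁻¹ = d⁻¹ := by
  obtain ⟨g, rfl⟩ := QuotientGroup.mk_surjective x
  have hg : g⁻¹ • (g : G ⧸ N₀ A) = x₀ := by
    rw [MulAction.Quotient.smul_mk, smul_eq_mul, inv_mul_cancel]
  have hg' : g • x₀ = (g : G ⧸ N₀ A) := by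
    rw [MulAction.Quotient.smul_mk, smul_eq_mul, mul_one]
  have hne : x₀ ≠ g⁻¹ • y := fun e => hxy (by rw [← hg', e, smul_inv_smul])
  have hv' : orderOf (g⁻¹ * v * g) = 2 := by
    have := conj_invol g⁻¹ hv
    rwa [inv_inv] at this
  have h := (hs.pair_facts hne).2.2 _ hv'
    (by rw [mul_smul, mul_smul, hg', hvx]) (g⁻¹ * d * g)
    ⟨by show (g⁻¹ * d * g) • x₀ = x₀; rw [mul_smul, mul_smul, hg', hdx, hg],
      by show (g⁻¹ * d * g) • g⁻¹ • y = g⁻¹ • y; rw [mul_smul, mul_smul, smul_inv_smul, hdy]⟩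
  have h2 := congrArg (fun w => g * w * g⁻¹) h
  simpa [mul_assoc] using h2

/-- `N(H) = D H`. -/
theorem exists_factor {h : G} (hh : h ∈ N₀ A) {z : G ⧸ N₀ A} (hz : x₀ ≠ z) :
    ∃ d ∈ stabilizer G x₀ ⊓ stabilizer G z, d⁻¹ * h ∈ A := by
  obtain ⟨d, hd, e⟩ := (hs.pair_facts hz).2.1 (h * t * h⁻¹) (conj_invol h hs.ord)
    (mul_mem (mul_mem hh (le_normalizer hs.mem_self)) (inv_mem hh))
  refine ⟨d, hd, hs.mem_A (Commute.symm ?_)⟩
  show d⁻¹ * h * t = t * (d⁻¹ * h)
  calc d⁻¹ * h * t = d⁻¹ * (h * t * h⁻¹) * h := by group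
    _ = t * (d⁻¹ * h) := by rw [← e]; group

/-- Only the identity fixes three cosets. -/
theorem eq_one_of_three {d : G} {z w : G ⧸ N₀ A} (hz : x₀ ≠ z) (hw : x₀ ≠ w) (hzw : z ≠ w)
    (h0 : d • x₀ = x₀) (h1 : d • z = z) (h2 : d • w = w) : d = 1 := by
  have hSE := hs.stronglyEmbedded
  by_contra hd1
  have hpos : ∀ {x y : G ⧸ N₀ A}, x ≠ y → ∃ v : G, orderOf v = 2 ∧ v • x = y := by
    intro x y hxy
    obtain ⟨a, rfl⟩ := QuotientGroup.mk_surjective x
    have h3 := SE.card_carry hSE (conj_invol a hs.ord) hxy (SE.smul_mk_eq_iff.2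
      (by simpa [mul_assoc] using le_normalizer hs.mem_self))
    rw [SE.card_fixing] at h3
    haveI : Nonempty {i : G // orderOf i = 2 ∧ i ∈ N₀ A} :=
      ⟨⟨t, hs.ord, le_normalizer hs.mem_self⟩⟩
    have h4 : 0 < Nat.card {i : G // orderOf i = 2 ∧ i • (a : G ⧸ N₀ A) = y} := h3 ▸ Nat.card_pos
    obtain ⟨⟨v, hv⟩⟩ := (Nat.card_pos_iff.1 h4).1
    exact ⟨v, hv⟩
  obtain ⟨u, hu, hu1⟩ := hpos hz
  obtain ⟨v, hv, hv1⟩ := hpos hzw
  obtain ⟨r, hr, hr1⟩ := hpos hw
  have hr2 : r • w = x₀ := by rw [← hr1, ← mul_smul, invol_mul_self hr, one_smul]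
  set k := r * v * u with hk
  have hkH : k ∈ N₀ A := mem_N₀_iff.2 (by rw [hk, mul_smul, mul_smul, hu1, hv1, hr2])
  have hkd : k * d * k⁻¹ = d⁻¹ := by
    have e1 := hs.inverts hz hu hu1 h0 h1
    have e2 := hs.inverts hzw hv hv1 h1 h2
    have e3 := hs.inverts hw hr hr1 h0 h2
    have e2' : v * d⁻¹ * v⁻¹ = d := by
      rw [← inv_inv d, inv_inv d⁻¹]; simpa [mul_assoc] using congrArg (·⁻¹) e2
    calc k * d * k⁻¹ = r * (v * (u * d * u⁻¹) * v⁻¹) * r⁻¹ := by rw [hk]; group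
      _ = d⁻¹ := by rw [e1, e2', e3]
  obtain ⟨f, hf, hfa⟩ := hs.exists_factor hkH hz
  set a := f⁻¹ * k with ha
  have hD := (hs.pair_facts hz).2.2 u hu hu1
  have hfd : f⁻¹ * d⁻¹ * f = d⁻¹ := by
    have hdd : d⁻¹ ∈ stabilizer G x₀ ⊓ stabilizer G z := inv_mem ⟨h0, h1⟩
    have e : (u * d⁻¹ * u⁻¹) * (u * f * u⁻¹) = u * (d⁻¹ * f) * u⁻¹ := by group
    rw [hD _ hdd, hD _ hf, hD _ (mul_mem hdd hf)] at e
    have e' : f * d⁻¹ = d⁻¹ * f := by
      have := congrArg (·⁻¹) e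
      simpa [mul_inv_rev] using this
    rw [mul_assoc, ← e', inv_mul_cancel_left]
  have had : a * d * a⁻¹ = d⁻¹ := by
    calc a * d * a⁻¹ = f⁻¹ * (k * d * k⁻¹) * f := by rw [ha]; group
      _ = d⁻¹ := by rw [hkd, hfd]
  have hdH : d ∈ N₀ A := mem_N₀_iff.2 h0
  have hsq : d⁻¹ * d⁻¹ = 1 := by
    refine hs.free ?_ hz ?_
    · rw [show d⁻¹ * d⁻¹ = a * (d * a⁻¹ * d⁻¹) by
        rw [show a * (d * a⁻¹ * d⁻¹) = a * d * a⁻¹ * d⁻¹ by group, had]]
      exact mul_mem hfa (conj_mem hdH (inv_mem hfa))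
    · rw [mul_smul, inv_smul_eq_iff.2 h1.symm, inv_smul_eq_iff.2 h1.symm]
  refine hd1 (eq_one_of_eq_inv_of_odd (eq_inv_of_mul_eq_one_left ?_)
    (SE.odd_of_two_fixed hSE hz h0 h1))
  simpa using congrArg (·⁻¹) hsq

/-- The centraliser of a non-identity element of the component lies in it. -/
theorem cle {x y : G} (hx : x ∈ A) (hx1 : x ≠ 1) (hc : Commute x y) : y ∈ A := by
  by_contra hy
  have hyN : y ∈ N₀ A := by
    have := hs.part.mem_normalizer_of_commute hx1 hx1 (hs.part.mem x hx1) hc.symm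
    rwa [hs.comp x hx hx1] at this
  obtain ⟨z, hz⟩ := hs.exists_other
  obtain ⟨d, hd, hda⟩ := hs.exists_factor hyN hz
  have hdN : d ∈ N₀ A := mem_N₀_iff.2 hd.1
  have hd1 : d ≠ 1 := fun e => hy (by simpa [e] using hda)
  -- `d` centralises nothing in the component
  have hfix : ∀ e ∈ A, Commute e d → e = 1 := fun e he hed => by
    have he0 : e • x₀ = x₀ := mem_N₀_iff.1 (le_normalizer he)
    refine hs.free he hz ?_
    by_contra hne
    refine hd1 (hs.eq_one_of_three hz (fun e' => hz ?_) (Ne.symm hne) hd.1 hd.2 ?_)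
    · exact smul_left_cancel e (he0.trans e')
    · rw [← mul_smul, ← hed.eq, mul_smul, hd.2]
  let f : A → A := fun b => ⟨d⁻¹ * b * d * (b : G)⁻¹, by
    refine mul_mem ?_ (inv_mem b.2)
    simpa using conj_mem (inv_mem hdN) b.2⟩
  have hf : Function.Injective f := fun b b' h => by
    have h' : d⁻¹ * b * d * (b : G)⁻¹ = d⁻¹ * b' * d * (b' : G)⁻¹ := congrArg Subtype.val h
    refine Subtype.ext (inv_mul_eq_one.1 (hfix _ (mul_mem (inv_mem b'.2) b.2) ?_)).symm
    show (b' : G)⁻¹ * b * d = d * ((b' : G)⁻¹ * b)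
    calc (b' : G)⁻¹ * b * d = (b' : G)⁻¹ * d * (d⁻¹ * b * d * (b : G)⁻¹) * b := by group
      _ = d * ((b' : G)⁻¹ * b) := by rw [h']; group
  obtain ⟨b, hb⟩ := Finite.surjective_of_injective hf ⟨d⁻¹ * y, hda⟩
  have hb' : d⁻¹ * b * d * (b : G)⁻¹ = d⁻¹ * y := congrArg Subtype.val hb
  have hy' : (b : G) * d * (b : G)⁻¹ = y := by
    calc (b : G) * d * (b : G)⁻¹ = d * (d⁻¹ * b * d * (b : G)⁻¹) := by group
      _ = y := by rw [hb', mul_inv_cancel_left]
  refine hx1 ((conj_eq_one_iff (c := (b : G)⁻¹)).1 (hfix _ ?_ ?_))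
  · exact mul_mem (mul_mem (inv_mem b.2) hx) (inv_mem (inv_mem b.2))
  · show (b : G)⁻¹ * x * (b : G)⁻¹⁻¹ * d = d * ((b : G)⁻¹ * x * (b : G)⁻¹⁻¹)
    calc (b : G)⁻¹ * x * (b : G)⁻¹⁻¹ * d = (b : G)⁻¹ * (x * ((b : G) * d * (b : G)⁻¹)) * b := by
          group
      _ = d * ((b : G)⁻¹ * x * (b : G)⁻¹⁻¹) := by rw [hy', hc.eq, ← hy']; group

theorem toSetup (hnil : Group.IsNilpotent A) (hns : ¬ Group.IsSolvable G) :
    FrobSys.Setup A t :=
  ⟨hnil, fun _ hx hx1 _ hy => hs.cle hx hx1 (mem_cent.1 hy),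
    fun _ _ ha ha1 h => hs.mem_of_meet ha ha1 h, hns, hs.ord, hs.mem, hs.central, hs.syl⟩

end Pre

/-- A nilpotent component containing a Sylow 2-subgroup: linear or Suzuki groups. -/
theorem of_sylow_le_component {G : Type u} [Group G] [Finite G] {K : G → Subgroup G} (hP : Part K)
    (hnil : ∀ g : G, g ≠ 1 → Group.IsNilpotent (K g)) (hns : ¬ Group.IsSolvable G)
    (hrad : ∀ N : Subgroup G, N.Normal → Group.IsSolvable N → N = ⊥) (S : Sylow 2 G) {z : G}
    (hz : orderOf z = 2) (hSK : (S : Subgroup G) ≤ K z) :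
    (∃ (F : Type) (_ : Field F) (_ : Fintype F), 4 ≤ Fintype.card F ∧
        Nonempty (G ≃* Matrix.ProjectiveSpecialLinearGroup (Fin 2) F)) ∨
      Cfsg.Lie.IsoSuzuki G := by
  have hz1 : z ≠ 1 := fun e => by rw [e, orderOf_one] at hz; omega
  haveI := hnil z hz1
  haveI : Fact (Nat.Prime 2) := ⟨Nat.prime_two⟩
  obtain ⟨Q, hQ⟩ := (IsPGroup.of_card (G := zpowers (⟨z, hP.mem z hz1⟩ : K z)) (n := 1)
    (by rw [Nat.card_zpowers, Subgroup.orderOf_mk, hz, pow_one])).exists_le_sylow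
  haveI hQn : (Q : Subgroup (K z)).Normal :=
    Q.normal_of_normalizerCondition Group.normalizerCondition_of_isNilpotent
  have hQne : (Q : Subgroup (K z)) ≠ ⊥ := fun e => hz1 (by
    have := hQ (mem_zpowers (⟨z, hP.mem z hz1⟩ : K z))
    rw [e, mem_bot] at this
    exact congrArg Subtype.val this)
  obtain ⟨q, hq, hqo⟩ := EPPOTwo.exists_involution
    (Q.isPGroup'.to_le (inf_le_left : (Q : Subgroup (K z)) ⊓ center (K z) ≤ _))
    (Base.inf_center_ne_bot_of_isNilpotent hQne)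
  have hpre : Pre K (K z) (q : G) :=
    { part := hP
      comp := fun a ha ha1 => hP.eq z a hz1 ha1 ha
      ne_top := fun htop => hP.ne_bot hz1
        (hrad _ (normalizer_eq_top_iff.1 htop) inferInstance)
      ord := by rw [Subgroup.orderOf_coe, hqo]
      mem := q.2
      central := fun a ha => congrArg Subtype.val (Subgroup.mem_center_iff.1 hq.2 ⟨a, ha⟩).symm
      syl := ⟨S, hSK⟩ }
  have hs := hpre.toSetup inferInstance hns
  haveI := hs.isSimple hrad
  obtain ⟨z', hz'⟩ := hs.exists_other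
  rcases hs.sl_two_or_two_group hz' with ⟨F, iF, iF', ⟨n, hn, hcard⟩, ⟨e⟩⟩ | hC
  · haveI : CharP F 2 := by
      have : ringChar F = 2 := FiniteField.even_card_iff_char_two.2 (by
        rw [hcard]; exact Nat.even_iff.1 (Nat.even_pow.2 ⟨even_two, by omega⟩))
      exact this ▸ ringChar.charP F
    refine Or.inl ⟨F, iF, iF', ?_, ⟨e.trans CfsgLib.Recog.pslEquivSL⟩⟩
    rw [hcard]
    exact (show 4 = 2 ^ 2 by norm_num).le.trans (Nat.pow_le_pow_right two_pos hn)
  · obtain ⟨D, m, -, hSE, hcard⟩ := hs.exists_seData hz' hC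
    exact Or.inr (CfsgLib.Recog.SzIso.isoSuzuki_of_SEData hSE hcard rfl)

end CfsgLib.Recog.PartitionType
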